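import Groth.Agent.MaxTorFieldLib.Main
import Groth.Agent.S3922
import Groth.Agent.AntiAffLib.Centre
import Groth.Agent.ChevThmLib.DescentGen
import Groth.Agent.AlbLib.AffineHom
import Groth.Agent.MaxTorConjLib.Geom

/-!
# Maximal tori of smooth groups of finite type over a field
-/

set_option autoImplicit false
set_option linter.style.haveILetI false
set_option backward.isDefEq.respectTransparency false
set_option maxHeartbeats 1000000
set_option synthInstance.maxHeartbeats 200000

noncomputable section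

universe u

open CategoryTheory CategoryTheory.Limits MonoidalCategory CartesianMonoidalCategory AlgebraicGeometry
open scoped MonObj

attribute [-instance] CategoryTheory.Hom.commGroup

namespace Groth.Agent.MaxTorField

variable {k : Type u} [Field k]

/-- Smooth connected affine groups over arbitrary fields have maximal tori. -/
theorem exists_maximalTorus_affine' (G : Over (Spec (CommRingCat.of k))) [GrpObj G] [IsAffine G.left] [Smooth G.hom]
    [ConnectedSpace ↥G.left] :
    ∃ (T : Over (Spec (CommRingCat.of k))) (_ : GrpObj T) (i : T ⟶ G), Red.IsMaximalTorus i := by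
  rcases finite_or_infinite k with hk | hk
  · haveI := hk
    obtain ⟨B, _, iB, T, _, t, -, hT⟩ := Groth.Agent.S3922.result k G
    exact ⟨T, _, t ≫ iB, hT⟩
  · haveI := hk
    exact exists_maximalTorus_affine G

/-- Tori of commutative groups mapping to a proper group with affine kernel. -/
theorem exists_universal_torus {P B : Over (Spec (CommRingCat.of k))} [GrpObj P] [GrpObj B] [IsCommMonObj P]
    [LocallyOfFiniteType P.hom] [IsProper B.hom] (g : P ⟶ B) [IsMonHom g]
    (haff : ∀ (N : Over (Spec (CommRingCat.of k))) (n : N ⟶ P), IsClosedImmersion n.left → n ≫ g = 1 → IsAffine N.left) :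
    ∃ (T : Over (Spec (CommRingCat.of k))) (_ : GrpObj T) (t : T ⟶ P), IsMonHom t ∧ Mono t ∧ Red.IsTorus T ∧
      ∀ (K : Type u) [Field K] (π : Spec (CommRingCat.of K) ⟶ Spec (CommRingCat.of k))
        (R : Over (Spec (CommRingCat.of K))) [GrpObj R] (v : R ⟶ Red.bc π P) [IsMonHom v], Red.IsTorus R →
        ∃ z : R ⟶ Red.bc π T, z ≫ (Over.pullback π).map t = v := by
  let N := pullback g η[B]
  let n : N ⟶ P := pullback.fst g η[B]
  have hN : IsPullback n (pullback.snd g η[B]) g η[B] := IsPullback.of_hasPullback g η[B]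
  have hu : pullback.snd g η[B] = toUnit N := toUnit_unique _ _
  have hker : AlgGrp.IsKernel n g := by
    show IsPullback n (toUnit N) g η[B]
    rwa [← hu]
  haveI : Mono n := ⟨fun {W} a b h => hker.hom_ext h (toUnit_unique _ _)⟩
  have hfac : ∀ {X : Over (Spec (CommRingCat.of k))} (x : X ⟶ P), (∃ z, z ≫ n = x) ↔ x ≫ g = 1 := fun {X} x =>
    ⟨fun ⟨z, hz⟩ => by rw [← hz, Category.assoc, hker.w, ← Category.assoc, toUnit_unique (z ≫ toUnit N) (toUnit X),
      Hom.one_def], fun h => AntiAffLib.exists_lift_kernel hker x h⟩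
  obtain ⟨_, hn⟩ := WeilRes.exists_grpObj_of_pred n (fun {X} x => x ≫ g = 1) hfac (MonObj.one_comp g)
    (fun a b ha hb => by rw [MonObj.mul_comp, ha, hb, _root_.one_mul])
    (fun a ha => by rw [GrpObj.inv_comp, ha, inv_one])
  haveI := hn
  haveI : IsClosedImmersion (η[B] : _ ⟶ B).left := by
    haveI : IsSeparated B.hom := inferInstance
    haveI : IsClosedImmersion ((η[B] : _ ⟶ B).left ≫ B.hom) := by
      rw [Over.w]
      exact inferInstanceAs (IsClosedImmersion (𝟙 _))
    exact IsClosedImmersion.of_comp (η[B] : _ ⟶ B).left B.hom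
  haveI : IsClosedImmersion n.left :=
    MorphismProperty.of_isPullback (P := @IsClosedImmersion) (hN.map (Over.forget _)).flip ‹_›
  haveI : IsAffine N.left := haff N n inferInstance ((hfac n).1 ⟨𝟙 N, Category.id_comp n⟩)
  haveI : LocallyOfFiniteType N.hom := by rw [← Over.w n]; infer_instance
  haveI : IsCommMonObj N := (isCommMonObj_iff_isMulCommutative N).2 fun X => ⟨⟨fun a b => by
    haveI := (isCommMonObj_iff_isMulCommutative P).1 ‹_› X
    rw [← cancel_mono n, MonObj.mul_comp, MonObj.mul_comp]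
    exact mul_comm' _ _⟩⟩
  obtain ⟨Z, _, z, ⟨hz, hzm, hZ, -, hzu⟩⟩ := CentreRed.exists_reductiveCentre N
  haveI := hz; haveI := hzm
  obtain ⟨_, ht, htm⟩ := MultTorus.exists_unique_maximalTorus hZ
  haveI := ht; haveI := htm.2.1
  refine ⟨_, _, MultTorus.torIncl Z ≫ z ≫ n, inferInstance, inferInstance, htm.2.2.1, fun K _ π R _ v _ hR => ?_⟩
  haveI : PreservesLimitsOfSize.{0, 0} (Over.pullback π) := (Over.mapPullbackAdj _).rightAdjoint_preservesLimits
  haveI := DiagRep.isMonHom_bc_map π g
  haveI := DiagRep.isMonHom_bc_map π n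
  haveI := DiagRep.isMonHom_bc_map π z
  haveI : IsProper (Red.bc π B).hom := MorphismProperty.pullback_snd (P := @IsProper) _ _ inferInstance
  haveI := FixConn.connectedSpace_torus hR
  haveI : IsAffineHom R.hom := MultEq.isAffineHom_of_isMultTypeFT (RedRank.isMultTypeFT_of_isTorus hR)
  haveI : IsAffine R.left := isAffine_of_isAffineHom R.hom
  haveI : Smooth R.hom := MaxTorConj.smooth_of_isTorus hR
  obtain ⟨v', hv'⟩ := AntiAffLib.exists_lift_kernel (MultExt.isKernel_bc π hker) v
    (AlbLib.eq_one_of_affine (v ≫ (Over.pullback π).map g))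
  haveI : IsMonHom (v' ≫ (Over.pullback π).map n) := by rw [hv']; infer_instance
  haveI : IsMonHom v' := DiagRep.isMonHom_of_comp_mono v' ((Over.pullback π).map n)
  haveI := MultExt.isCommMonObj_bc π N
  obtain ⟨w, hw⟩ := hzu _ π R v' (RedRank.isMultTypeFT_of_isTorus hR) fun X x y => by
    haveI := (isCommMonObj_iff_isMulCommutative (Red.bc π N)).1 ‹_› X
    exact mul_comm' _ _
  haveI : IsMonHom (w ≫ (Over.pullback π).map z) := by rw [hw]; infer_instance
  haveI : IsMonHom w := DiagRep.isMonHom_of_comp_mono w ((Over.pullback π).map z)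
  obtain ⟨x, hx⟩ := MultTorus.exists_factor_bc π hR w
  exact ⟨x, by rw [Functor.map_comp, Functor.map_comp, reassoc_of% hx, reassoc_of% hw, hv']⟩

/-- Smooth connected groups of finite type over a field have maximal tori. -/
theorem exists_maximalTorus_connected (G : Over (Spec (CommRingCat.of k))) [GrpObj G] [Smooth G.hom]
    [QuasiCompact G.hom] [ConnectedSpace ↥G.left] :
    ∃ (T : Over (Spec (CommRingCat.of k))) (_ : GrpObj T) (i : T ⟶ G), Red.IsMaximalTorus i := by
  haveI : IsSeparated G.hom := Groth.Agent.GrpField.isSeparated_grp (G := G)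
  obtain ⟨Z, _, z, hz, hzcl, hzch, Q, _, q, hq, hQa, hQf, hqfl, hqs, hker⟩ := AntiAffLib.exists_centre G
  haveI := hz; haveI := hzcl; haveI := hq; haveI := hQa; haveI := hQf; haveI := hqfl; haveI := hqs
  haveI : Mono z.left := inferInstance
  haveI : Mono z := Over.mono_of_mono_left z
  haveI : Smooth Q.hom := NormSub.smooth_of_quot q
  haveI : ConnectedSpace ↥Q.left := q.left.surjective.connectedSpace q.left.continuous
  haveI : LocallyOfFiniteType q.left := GrpHom.lft_left q
  haveI : IsLocallyNoetherian Q.left := LocallyOfFiniteType.isLocallyNoetherian Q.hom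
  haveI : LocallyOfFinitePresentation q.left := inferInstance
  obtain ⟨T₁, _, i₁, h₁⟩ := exists_maximalTorus_affine' Q
  haveI := h₁.1; haveI := h₁.2.1
  have hT₁ := h₁.2.2.1
  haveI : IsAffineHom T₁.hom := MultEq.isAffineHom_of_isMultTypeFT (RedRank.isMultTypeFT_of_isTorus hT₁)
  haveI : LocallyOfFinitePresentation T₁.hom := MultEq.lfp_of_isMultTypeFT (RedRank.isMultTypeFT_of_isTorus hT₁)
  haveI : Mono i₁.left := inferInstanceAs (Mono ((Over.forget _).map i₁))
  haveI : QuasiCompact i₁.left := WittGrpLib.quasiCompact_left i₁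
  haveI : IsClosedImmersion i₁.left := GrpHom.isClosedImmersion_of_mono i₁
  let P := pullback q i₁
  let i' : P ⟶ G := pullback.fst q i₁
  let p : P ⟶ T₁ := pullback.snd q i₁
  have hP : IsPullback i' p q i₁ := IsPullback.of_hasPullback q i₁
  haveI : IsClosedImmersion i'.left :=
    MorphismProperty.of_isPullback (P := @IsClosedImmersion) (hP.map (Over.forget _)).flip ‹IsClosedImmersion i₁.left›
  haveI : Mono i'.left := inferInstance
  haveI : Mono i' := Over.mono_of_mono_left i'
  obtain ⟨_, hi'⟩ := WeilRes.exists_grpObj_of_pred i' (fun {X} g => ∃ y : X ⟶ T₁, y ≫ i₁ = g ≫ q)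
    (fun {X} g => ⟨fun ⟨w, hw⟩ => ⟨w ≫ p, by rw [Category.assoc, ← hP.w, reassoc_of% hw]⟩,
      fun ⟨y, hy⟩ => ⟨hP.lift g y hy.symm, hP.lift_fst _ _ _⟩⟩)
    ⟨1, by rw [MonObj.one_comp, MonObj.one_comp]⟩
    (fun a b ⟨y, hy⟩ ⟨y', hy'⟩ => ⟨y * y', by rw [MonObj.mul_comp, MonObj.mul_comp, hy, hy']⟩)
    (fun a ⟨y, hy⟩ => ⟨y⁻¹, by rw [GrpObj.inv_comp, GrpObj.inv_comp, hy]⟩)
  haveI := hi'
  haveI : IsMonHom (p ≫ i₁) := hP.w ▸ (inferInstance : IsMonHom (i' ≫ q))
  haveI : IsMonHom p := DiagRep.isMonHom_of_comp_mono p i₁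
  haveI : QuasiCompact P.hom := by rw [← Over.w i']; infer_instance
  haveI : LocallyOfFiniteType P.hom := by rw [← Over.w i']; infer_instance
  have hzq : z ≫ q = 1 := hker.w
  let kP : Z ⟶ P := hP.lift z 1 (by rw [hzq, MonObj.one_comp])
  have hk1 : kP ≫ i' = z := hP.lift_fst _ _ _
  haveI : IsMonHom (kP ≫ i') := hk1.symm ▸ hz
  haveI : IsMonHom kP := DiagRep.isMonHom_of_comp_mono kP i'
  haveI : Mono kP := mono_of_mono_fac hk1
  have hk2 : kP ≫ p = toUnit Z ≫ η[T₁] := hP.lift_snd _ _ _
  have hkerP : AlgGrp.IsKernel kP p := by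
    refine IsPullback.of_right ?_ hk2 hP
    rw [hk1, IsMonHom.one_hom i₁]
    exact hker
  haveI : Flat p.left := MorphismProperty.of_isPullback (hP.map (Over.forget _)) hqfl
  haveI : Surjective p.left := MorphismProperty.of_isPullback (hP.map (Over.forget _)) hqs
  haveI : LocallyOfFinitePresentation p.left :=
    MorphismProperty.of_isPullback (P := @LocallyOfFinitePresentation) (hP.map (Over.forget _))
      (inferInstanceAs (LocallyOfFinitePresentation q.left))
  have hkc : ∀ (X : Over (Spec (CommRingCat.of k))) (x : X ⟶ Z) (g : X ⟶ P),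
      (x ≫ kP) * g = g * (x ≫ kP) := fun X x g => by
    rw [← cancel_mono i', MonObj.mul_comp, MonObj.mul_comp, Category.assoc, hk1]
    have := (hzch X (x ≫ z)).1 ⟨x, rfl⟩ X (𝟙 X) (g ≫ i')
    rwa [Category.id_comp] at this
  have hPq : RedSub.IsQuotient kP p :=
    ⟨inferInstance, inferInstance, inferInstance, MultExt.isPullback_self kP p hkerP⟩
  have hcomm := Groth.Agent.S8431.result k P Z kP hkc T₁ p hPq hT₁
  haveI : IsCommMonObj P := (isCommMonObj_iff_isMulCommutative P).2 fun X => ⟨⟨hcomm X⟩⟩
  obtain ⟨B, _, f, hf, hBp, hBk⟩ := ChevThmLib.exists_affineKer_map G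
  haveI := hf; haveI := hBp
  obtain ⟨T, _, t, ht, htm, hT, huniv⟩ := exists_universal_torus (i' ≫ f) fun N n hn h1 =>
    hBk N (n ≫ i') (inferInstanceAs (IsClosedImmersion (n.left ≫ i'.left))) (by rw [Category.assoc, h1])
  haveI := ht; haveI := htm
  exact ⟨T, _, _, isMaximalTorus_preimage q h₁ i' p hP t hT fun s R _ v _ hR => huniv _ (Red.geomPt s) R v hR⟩

/-- Smooth groups of finite type over a field have maximal tori. -/
theorem exists_maximalTorus (G : Over (Spec (CommRingCat.of k))) [GrpObj G] [Smooth G.hom]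
    [QuasiCompact G.hom] :
    ∃ (T : Over (Spec (CommRingCat.of k))) (_ : GrpObj T) (i : T ⟶ G), Red.IsMaximalTorus i := by
  obtain ⟨C, _, c, hc, hci, hfl, -, hgi, hcs⟩ := GrpField.exists_identity_component (G := G)
  haveI := hc; haveI := hci; haveI := hfl; haveI := hgi; haveI := hcs
  haveI : IsLocallyNoetherian G.left := LocallyOfFiniteType.isLocallyNoetherian G.hom
  haveI : LocallyOfFinitePresentation c.left := inferInstance
  haveI : IsOpenImmersion c.left := IsOpenImmersion.of_flat_of_mono c.left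
  haveI : Smooth C.hom := by rw [← Over.w c]; infer_instance
  haveI : QuasiCompact C.hom := (quasiCompact_iff_compactSpace C.hom).2 hcs
  haveI : ConnectedSpace ↥C.left := by
    haveI : IrreducibleSpace ↥C.left := GeometricallyIrreducible.irreducibleSpace_of_subsingleton C.hom
    infer_instance
  haveI : Mono c := Over.mono_of_mono_left c
  obtain ⟨T, _, i, hi⟩ := exists_maximalTorus_connected C
  haveI := hi.1; haveI := hi.2.1
  refine ⟨T, _, i ≫ c, inferInstance, inferInstance, hi.2.2.1, fun s T' _ j _ _ f hT' hf => ?_⟩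
  let π := Red.geomPt s
  haveI : PreservesLimitsOfSize.{0, 0} (Over.pullback π) := (Over.mapPullbackAdj _).rightAdjoint_preservesLimits
  haveI := DiagRep.isMonHom_bc_map π c
  haveI := FixConn.connectedSpace_torus hT'
  have sqL := PowEtCentralLib.isPullback_map_left π c
  haveI : IsOpenImmersion ((Over.pullback π).map c).left :=
    MorphismProperty.of_isPullback (P := @IsOpenImmersion) sqL ‹_›
  haveI : IsClosedImmersion ((Over.pullback π).map c).left :=
    MorphismProperty.of_isPullback (P := @IsClosedImmersion) sqL ‹IsClosedImmersion c.left›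
  obtain ⟨j', hj'⟩ := exists_factor_clopen ((Over.pullback π).map c)
    ((Over.pullback π).map c).left.isClosedEmbedding.isClosed_range j
  haveI : IsMonHom (j' ≫ (Over.pullback π).map c) := by rw [hj']; infer_instance
  haveI : IsMonHom j' := DiagRep.isMonHom_of_comp_mono j' ((Over.pullback π).map c)
  haveI : Mono j' := mono_of_mono_fac hj'
  refine hi.2.2.2 s T' j' f hT' ?_
  rw [← cancel_mono ((Over.pullback π).map c), Category.assoc, hj', hf, Functor.map_comp]

end Groth.Agent.MaxTorField
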