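import Groth.Agent.GrpFieldLib.Identity
import Groth.Agent.S5247
import Groth.Agent.S8398
import Groth.Agent.S16791
import Groth.Agent.MaxTorusRankLib.Nearby
import Groth.Agent.BorelLib.MaxTorGeom
import Groth.Agent.WittGrpLib.Dim
import Groth.Agent.MultExtLib.Rigid
import Groth.Agent.FixConnLib.Main
import Mathlib.AlgebraicGeometry.Morphisms.FlatMono

/-!
# Maximal tori of the centraliser of a subgroup of multiplicative type
-/

set_option autoImplicit false
set_option backward.isDefEq.respectTransparency false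
set_option maxHeartbeats 800000

noncomputable section

universe u

open CategoryTheory CategoryTheory.Limits MonoidalCategory CartesianMonoidalCategory AlgebraicGeometry
open scoped MonObj

attribute [-instance] CategoryTheory.Hom.commGroup

namespace Groth.Agent.MaxTorField

variable {k : Type u} [Field k]

/-- Multiplication by a central factor, transported to a base change. -/
theorem commute_bc {S S' : Scheme.{u}} (p : S' ⟶ S) {G A B : Over S} [GrpObj G] [GrpObj A] [GrpObj B]
    (a : A ⟶ G) (b : B ⟶ G)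
    (hc : ∀ (X : Over S) (x : X ⟶ A) (y : X ⟶ B), (x ≫ a) * (y ≫ b) = (y ≫ b) * (x ≫ a))
    (X : Over S') (x : X ⟶ Red.bc p A) (y : X ⟶ Red.bc p B) :
    (x ≫ (Over.pullback p).map a) * (y ≫ (Over.pullback p).map b) =
      (y ≫ (Over.pullback p).map b) * (x ≫ (Over.pullback p).map a) := by
  obtain ⟨x₀, rfl⟩ := ((Over.mapPullbackAdj p).homEquiv X A).surjective x
  obtain ⟨y₀, rfl⟩ := ((Over.mapPullbackAdj p).homEquiv X B).surjective y
  rw [← Adjunction.homEquiv_naturality_right, ← Adjunction.homEquiv_naturality_right,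
    ← AlgGrp.Action.homEquiv_mul, ← AlgGrp.Action.homEquiv_mul, hc]

/-- Morphisms from connected schemes through the unit land in a clopen subgroup. -/
theorem exists_factor_clopen {S : Scheme.{u}} {Z C T : Over S} [GrpObj Z] [GrpObj C] [GrpObj T]
    (i : C ⟶ Z) [IsMonHom i] [IsOpenImmersion i.left] (hcl : IsClosed (Set.range i.left)) (j : T ⟶ Z) [IsMonHom j]
    [ConnectedSpace ↥T.left] [Nonempty ↥S] : ∃ j' : T ⟶ C, j' ≫ i = j := by
  have hclo : IsClopen (Set.range i.left) := ⟨hcl, i.left.isOpenEmbedding.isOpen_range⟩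
  obtain ⟨s⟩ := ‹Nonempty ↥S›
  let t₀ : T.left := (η[T] : 𝟙_ (Over S) ⟶ T).left s
  have h0 : j.left t₀ ∈ Set.range i.left := by
    refine ⟨(η[C] : 𝟙_ (Over S) ⟶ C).left s, ?_⟩
    rw [← Scheme.Hom.comp_apply, ← Over.comp_left, IsMonHom.one_hom, ← Scheme.Hom.comp_apply, ← Over.comp_left,
      IsMonHom.one_hom]
  have hall : Set.range j.left ⊆ Set.range i.left := by
    rw [Set.range_subset_iff]
    intro t
    have : (j.left ⁻¹' Set.range i.left) = Set.univ :=
      IsClopen.eq_univ (hclo.preimage j.left.continuous) ⟨t₀, h0⟩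
    have ht : t ∈ j.left ⁻¹' Set.range i.left := this ▸ Set.mem_univ t
    exact ht
  refine ⟨Over.homMk (IsOpenImmersion.lift i.left j.left hall) ?_, Over.OverMorphism.ext (IsOpenImmersion.lift_fac _ _ _)⟩
  rw [← Over.w i, IsOpenImmersion.lift_fac_assoc, Over.w j]

theorem isConnected_fibres {G : Over (Spec (CommRingCat.of k))} [ConnectedSpace ↥G.left]
    (s : ↥(Spec (CommRingCat.of k))) : _root_.IsConnected (G.hom.base ⁻¹' {s}) := by
  have hu : G.hom.base ⁻¹' {s} = Set.univ :=
    Set.eq_univ_of_forall fun x => Subsingleton.elim (α := PrimeSpectrum k) _ _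
  rw [hu]
  exact isConnected_univ

/-- The connected centraliser of a subgroup of multiplicative type inside a connected commutative subgroup: its
maximal tori are maximal. -/
theorem exists_cent {G : Over (Spec (CommRingCat.of k))} [GrpObj G] [IsAffine G.left] [Smooth G.hom]
    {H M : Over (Spec (CommRingCat.of k))} [GrpObj H] [IsCommMonObj H] [GrpObj M] (u : M ⟶ H) [IsMonHom u]
    (h : H ⟶ G) [IsMonHom h] [ConnectedSpace ↥H.left] (hM : SGA3x.IsMultTypeFT M) :
    ∃ (C : Over (Spec (CommRingCat.of k))) (_ : GrpObj C) (c : C ⟶ G), IsMonHom c ∧ IsClosedImmersion c.left ∧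
      IsAffine C.left ∧ Smooth C.hom ∧ ConnectedSpace ↥C.left ∧
      (∀ (X : Over (Spec (CommRingCat.of k))) (x : X ⟶ M) (y : X ⟶ C),
        (x ≫ u ≫ h) * (y ≫ c) = (y ≫ c) * (x ≫ u ≫ h)) ∧
      (∃ uC : M ⟶ C, IsMonHom uC ∧ uC ≫ c = u ≫ h) ∧
      ∀ (T : Over (Spec (CommRingCat.of k))) [GrpObj T] (i : T ⟶ C), Red.IsMaximalTorus i →
        Red.IsMaximalTorus (i ≫ c) := by
  haveI : IsAffineHom G.hom := inferInstance
  obtain ⟨Z, _, z, hz, hzc, hzs⟩ := Groth.Agent.S5247.result M G hM inferInstance inferInstance (u ≫ h)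
  haveI := hzc; haveI := hzs; haveI := hz.1; haveI := hz.2.1
  obtain ⟨C, _, i₀, hi₀, hci, hfl, hr, hgi, -⟩ := GrpField.exists_identity_component (G := Z)
  haveI := hi₀; haveI := hci; haveI := hfl
  haveI : IsAffine Z.left := isAffine_of_isAffineHom z.left
  haveI : IsAffine C.left := isAffine_of_isAffineHom i₀.left
  haveI : IsLocallyNoetherian Z.left := LocallyOfFiniteType.isLocallyNoetherian Z.hom
  haveI : LocallyOfFinitePresentation i₀.left := inferInstance
  haveI : IsOpenImmersion i₀.left := IsOpenImmersion.of_flat_of_mono i₀.left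
  haveI : Smooth C.hom := by rw [← Over.w i₀]; infer_instance
  haveI : ConnectedSpace ↥C.left := by
    haveI : IrreducibleSpace ↥C.left := GeometricallyIrreducible.irreducibleSpace_of_subsingleton C.hom
    infer_instance
  let c := i₀ ≫ z
  haveI : IsMonHom c := inferInstance
  haveI : IsClosedImmersion c.left := inferInstanceAs (IsClosedImmersion (i₀.left ≫ z.left))
  haveI : Mono z := hz.2.1
  haveI : Mono i₀ := Over.mono_of_mono_left i₀
  -- the commutative subgroup lies in the centraliser
  have hcH : ∀ (X : Over (Spec (CommRingCat.of k))) (a b : X ⟶ H), a * b = b * a := fun X a b => by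
    letI : CommGroup (X ⟶ H) := Hom.commGroup
    exact mul_comm a b
  obtain ⟨h', hh'⟩ := (hz.2.2 H h).2 fun X x y => by
    rw [← Category.assoc y u h, ← MonObj.mul_comp, ← MonObj.mul_comp, hcH]
  haveI : IsMonHom (h' ≫ z) := by rw [hh']; infer_instance
  haveI : IsMonHom h' := DiagRep.isMonHom_of_comp_mono h' z
  obtain ⟨h'', hh''⟩ := exists_factor_clopen i₀ i₀.left.isClosedEmbedding.isClosed_range h'
  haveI : IsMonHom (h'' ≫ i₀) := by rw [hh'']; infer_instance
  haveI : IsMonHom h'' := DiagRep.isMonHom_of_comp_mono h'' i₀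
  have hcent : ∀ (X : Over (Spec (CommRingCat.of k))) (x : X ⟶ M) (y : X ⟶ C),
      (x ≫ u ≫ h) * (y ≫ c) = (y ≫ c) * (x ≫ u ≫ h) := fun X x y => by
    have := (hz.2.2 X (y ≫ c)).1 ⟨y ≫ i₀, Category.assoc _ _ _⟩ X (𝟙 X) x
    rw [Category.id_comp] at this
    exact this.symm
  -- the subgroup of multiplicative type lies in every maximal torus of the centraliser
  let uC : M ⟶ C := u ≫ h''
  have huC : uC ≫ c = u ≫ h := by
    show (u ≫ h'') ≫ i₀ ≫ z = _
    rw [Category.assoc, ← Category.assoc h'', hh'', hh']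
  haveI : Mono c := inferInstanceAs (Mono (i₀ ≫ z))
  refine ⟨C, inferInstance, c, inferInstance, inferInstance, inferInstance, inferInstance, inferInstance, hcent,
    ⟨uC, inferInstance, huC⟩, fun T _ i hi => ?_⟩
  haveI := hi.1; haveI := hi.2.1
  obtain ⟨w, hw⟩ := Groth.Agent.S8398.result _ C isConnected_fibres T i hi M hM uC fun X x g => by
    rw [← cancel_mono c, MonObj.mul_comp, MonObj.mul_comp, Category.assoc, huC]
    exact hcent X x g
  let K : Type u := AlgebraicClosure k
  let p : Spec (CommRingCat.of K) ⟶ Spec (CommRingCat.of k) := DiagRep.baseHom k K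
  have hp : Surjective p := TorusField.surjective_baseHom k K
  rw [Groth.Agent.S16791.result inferInstance inferInstance (i ≫ c) hi.2.2.1 p hp]
  have hK : Red.IsMaximalTorus ((Over.pullback p).map i) :=
    (Groth.Agent.S16791.result inferInstance inferInstance i hi.2.2.1 p hp).1 hi
  have hK' := MaxTorusRank.isMaxTorus_of_isMaximalTorus hK
  haveI : IsAffineHom (Red.bc p G).hom := RedRank.isAffineHom_bc G p
  haveI : Smooth (Red.bc p G).hom := MorphismProperty.pullback_snd (P := @Smooth) _ _ inferInstance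
  haveI : PreservesLimitsOfSize.{0, 0} (Over.pullback p) := (Over.mapPullbackAdj _).rightAdjoint_preservesLimits
  haveI := DiagRep.isMonHom_bc_map p (i ≫ c)
  haveI := DiagRep.isMonHom_bc_map p c
  haveI := DiagRep.isMonHom_bc_map p i₀
  haveI := DiagRep.isMonHom_bc_map p z
  haveI : IsAffine (Red.bc p G).left := isAffine_of_isAffineHom (Red.bc p G).hom
  refine BorelLib.isMaximalTorus_of_isMaxTorus ⟨inferInstance, inferInstance, RedRank.isTorus_bc hi.2.2.1 p,
    fun T' _ j _ _ f hT' hf => ?_⟩
  haveI := FixConn.connectedSpace_torus hT'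
  have hzp := MaxTorusRank.isCentralizerOf_bc hz p
  obtain ⟨j₁, hj₁⟩ := (hzp.2.2 T' j).2 fun X x y => by
    have e : (Over.pullback p).map (u ≫ h) = ((Over.pullback p).map w ≫ f) ≫ j := by
      rw [Category.assoc, hf, ← Functor.map_comp, ← Category.assoc w, hw, huC]
    rw [e, ← Category.assoc y, ← MonObj.mul_comp, ← MonObj.mul_comp,
      MultExt.commute_of_isMultTypeFT (RedRank.isMultTypeFT_of_isTorus hT')]
  haveI : IsMonHom (j₁ ≫ (Over.pullback p).map z) := by rw [hj₁]; infer_instance
  haveI : IsMonHom j₁ := DiagRep.isMonHom_of_comp_mono j₁ ((Over.pullback p).map z)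
  have sqL := PowEtCentralLib.isPullback_map_left p i₀
  haveI : IsOpenImmersion ((Over.pullback p).map i₀).left :=
    MorphismProperty.of_isPullback (P := @IsOpenImmersion) sqL ‹_›
  haveI : IsClosedImmersion ((Over.pullback p).map i₀).left :=
    MorphismProperty.of_isPullback (P := @IsClosedImmersion) sqL ‹IsClosedImmersion i₀.left›
  obtain ⟨j₂, hj₂⟩ := exists_factor_clopen ((Over.pullback p).map i₀)
    ((Over.pullback p).map i₀).left.isClosedEmbedding.isClosed_range j₁
  haveI : IsMonHom (j₂ ≫ (Over.pullback p).map i₀) := by rw [hj₂]; infer_instance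
  haveI : IsMonHom j₂ := DiagRep.isMonHom_of_comp_mono j₂ ((Over.pullback p).map i₀)
  have hj : j₂ ≫ (Over.pullback p).map c = j := by
    show j₂ ≫ (Over.pullback p).map (i₀ ≫ z) = j
    rw [Functor.map_comp, ← Category.assoc, hj₂, hj₁]
  haveI : Mono (j₂ ≫ (Over.pullback p).map c) := by rw [hj]; infer_instance
  haveI : Mono j₂ := mono_of_mono j₂ ((Over.pullback p).map c)
  refine hK'.2.2.2 T' j₂ f hT' ?_
  rw [← cancel_mono ((Over.pullback p).map c), Category.assoc, hj, hf, Functor.map_comp]


/-- A non-central subgroup of multiplicative type inside a connected commutative subgroup cuts out a smaller group with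
the same maximal tori. -/
theorem exists_step {G : Over (Spec (CommRingCat.of k))} [GrpObj G] [IsAffine G.left] [Smooth G.hom]
    [ConnectedSpace ↥G.left] (hdim : topologicalKrullDim ↥G.left ≠ ⊤)
    {H M : Over (Spec (CommRingCat.of k))} [GrpObj H] [IsCommMonObj H] [GrpObj M] (u : M ⟶ H) [IsMonHom u]
    (h : H ⟶ G) [IsMonHom h] [ConnectedSpace ↥H.left] (hM : SGA3x.IsMultTypeFT M)
    (hnc : ¬ ∀ (X : Over (Spec (CommRingCat.of k))) (x : X ⟶ M) (g : X ⟶ G),
      (x ≫ u ≫ h) * g = g * (x ≫ u ≫ h)) :
    ∃ (C : Over (Spec (CommRingCat.of k))) (_ : GrpObj C) (c : C ⟶ G), IsMonHom c ∧ IsClosedImmersion c.left ∧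
      IsAffine C.left ∧ Smooth C.hom ∧ ConnectedSpace ↥C.left ∧ topologicalKrullDim ↥C.left < topologicalKrullDim ↥G.left ∧
      ∀ (T : Over (Spec (CommRingCat.of k))) [GrpObj T] (i : T ⟶ C), Red.IsMaximalTorus i →
        Red.IsMaximalTorus (i ≫ c) := by
  obtain ⟨C, _, c, hc, hcc, hCa, hCs, hCc, hcent, -, hmax⟩ := exists_cent u h hM
  haveI := hc; haveI := hcc; haveI := hCa; haveI := hCs; haveI := hCc
  refine ⟨C, inferInstance, c, hc, hcc, hCa, hCs, hCc, ?_, hmax⟩
  · haveI : Smooth C.hom := inferInstance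
    haveI : AlgebraicGeometry.IsReduced G.left := AlgSpLib.isReduced_of_smooth G.hom
    haveI : GeometricallyIntegral G.hom := AlbLib.geometricallyIntegral_grp G
    haveI : IsIntegral G.left := GeometricallyIntegral.isIntegral_of_subsingleton G.hom
    have hne : Set.range c.left ≠ Set.univ := fun heq => hnc fun X x g => by
      haveI : Surjective c.left := ⟨Set.range_eq_univ.1 heq⟩
      haveI : IsIso c.left := isIso_of_isClosedImmersion_of_surjective _
      haveI : IsIso ((Over.forget _).map c) := ‹IsIso c.left›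
      haveI : IsIso c := isIso_of_reflects_iso c (Over.forget _)
      have := hcent X x (g ≫ CategoryTheory.inv c)
      simpa using this
    have hfin : topologicalKrullDim ↥(Set.univ : Set G.left) ≠ ⊤ := by
      rw [(Homeomorph.Set.univ G.left).isHomeomorph.topologicalKrullDim_eq]
      exact hdim
    have hlt := WittGrpLib.dim_lt c.left.isClosedEmbedding.isClosed_range (Set.subset_univ _)
      (IrreducibleSpace.isIrreducible_univ G.left) hne hfin
    rw [(Homeomorph.Set.univ G.left).isHomeomorph.topologicalKrullDim_eq,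
      ← (c.left.isClosedEmbedding.isEmbedding.toHomeomorph).isHomeomorph.topologicalKrullDim_eq] at hlt
    exact hlt

end Groth.Agent.MaxTorField
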