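import Groth.Agent.BorelLib.NonAffImage
import Groth.Agent.AVAmpleLib.HomDiv
import Groth.Agent.AlbLib.AVBasic
import Groth.Agent.MultExtLib.Quot

/-!
# Maximal tori in preimages
-/

set_option autoImplicit false
set_option linter.style.haveILetI false
set_option backward.isDefEq.respectTransparency false
set_option maxHeartbeats 1000000
set_option synthInstance.maxHeartbeats 200000

noncomputable section

universe u

open CategoryTheory CategoryTheory.Limits MonoidalCategory CartesianMonoidalCategory AlgebraicGeometry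
open scoped MonObj

attribute [-instance] CategoryTheory.Hom.commGroup

namespace Groth.Agent.MaxTorField

/-- Over an algebraically closed field: a torus receiving all tori of the preimage of a maximal torus is maximal. -/
theorem isMaxTorus_preimage_closed {K : Type u} [Field K] [IsAlgClosed K]
    {G Q P T T₁ : Over (Spec (CommRingCat.of K))} [GrpObj G] [GrpObj Q] [GrpObj P] [GrpObj T] [GrpObj T₁]
    [Smooth G.hom] [QuasiCompact G.hom] [ConnectedSpace ↥G.left] [Smooth Q.hom] [QuasiCompact Q.hom]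
    [ConnectedSpace ↥Q.left] (q : G ⟶ Q) [IsMonHom q] [Surjective q.left]
    {i₁ : T₁ ⟶ Q} (h₁ : AGF.IsMaxTorus i₁) (i' : P ⟶ G) [IsMonHom i'] (p : P ⟶ T₁) (hP : IsPullback i' p q i₁)
    (t : T ⟶ P) (hT : Red.IsTorus T) [IsMonHom (t ≫ i')] [Mono (t ≫ i')]
    (huniv : ∀ (R : Over (Spec (CommRingCat.of K))) [GrpObj R] (v : R ⟶ P) [IsMonHom v], Red.IsTorus R →
      ∃ z : R ⟶ T, z ≫ t = v) :
    AGF.IsMaxTorus (t ≫ i') := by
  obtain ⟨S, _, s, hs⟩ := BorelLib.NA.exists_maxTorus (G := G)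
  obtain ⟨S', _, s', w, hs', hw₁, hw₂, hw₃, hw⟩ := BorelLib.NA.exists_image_maxTorus (u := q) hs
  haveI := hs.1; haveI := hs.2.1; haveI := hs'.1; haveI := hw₁; haveI := h₁.1; haveI := h₁.2.1
  obtain ⟨g, φ, hφ⟩ := BorelLib.NA.maxTorus_conj hs' h₁
  haveI : IsSeparated Q.hom := Groth.Agent.GrpField.isSeparated_grp (G := Q)
  obtain ⟨g₀, hg₀⟩ := AVAmpleLib.exists_pt_lift q g
  haveI := DiagRep.isMonHom_conjBy g₀
  let e : G ≅ G := asIso (AGF.conjBy g₀ (𝟙 G))
  haveI : IsMonHom e.hom := DiagRep.isMonHom_conjBy g₀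
  let s₃ : S ⟶ G := s ≫ e.hom
  have h₃ : AGF.IsMaxTorus s₃ := RCentre.isMaxTorus_comp_iso hs e
  haveI := h₃.1
  have hs₃ : s₃ = (toUnit S ≫ g₀) * s * (toUnit S ≫ g₀)⁻¹ := by
    show s ≫ AGF.conjBy g₀ (𝟙 G) = _
    rw [← DiagRep.conjBy_eq_comp]
  have hw₄ : s₃ ≫ q = (w ≫ φ.hom) ≫ i₁ := by
    rw [Category.assoc w φ.hom i₁, ← hφ, hs₃]
    simp only [MonObj.comp_mul, MonObj.mul_comp, GrpObj.comp_inv, GrpObj.inv_comp, Category.assoc, hw, hg₀,
      comp_toUnit_assoc]
  let a : S ⟶ P := hP.lift s₃ (w ≫ φ.hom) hw₄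
  have ha : a ≫ i' = s₃ := hP.lift_fst _ _ _
  haveI : Mono i' := ⟨fun {Z} x y e' => hP.hom_ext e' (by
    rw [← cancel_mono i₁, Category.assoc, Category.assoc, ← hP.w, reassoc_of% e'])⟩
  haveI : IsMonHom (a ≫ i') := by rw [ha]; infer_instance
  haveI : IsMonHom a := DiagRep.isMonHom_of_comp_mono a i'
  obtain ⟨z, hz⟩ := huniv S a hs.2.2.1
  refine ⟨inferInstance, inferInstance, hT, fun T' _ j _ _ f hT' hf => ?_⟩
  have hzf : (z ≫ f) ≫ j = s₃ := by rw [Category.assoc, hf, ← Category.assoc, hz, ha]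
  haveI := h₃.2.2.2 T' j (z ≫ f) hT' hzf
  haveI : IsSplitEpi f := IsSplitEpi.mk' ⟨CategoryTheory.inv (z ≫ f) ≫ z, by simp⟩
  haveI : Mono (f ≫ j) := by rw [hf]; infer_instance
  haveI : Mono f := mono_of_mono f j
  exact isIso_of_mono_of_isSplitEpi f

/-- A torus receiving geometrically all tori of the preimage of a maximal torus is maximal. -/
theorem isMaximalTorus_preimage {k : Type u} [Field k]
    {G Q P T T₁ : Over (Spec (CommRingCat.of k))} [GrpObj G] [GrpObj Q] [GrpObj P] [GrpObj T] [GrpObj T₁]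
    [Smooth G.hom] [QuasiCompact G.hom] [ConnectedSpace ↥G.left] [Smooth Q.hom] [QuasiCompact Q.hom]
    [ConnectedSpace ↥Q.left] (q : G ⟶ Q) [IsMonHom q] [Surjective q.left]
    {i₁ : T₁ ⟶ Q} (h₁ : Red.IsMaximalTorus i₁) (i' : P ⟶ G) [IsMonHom i'] (p : P ⟶ T₁) (hP : IsPullback i' p q i₁)
    (t : T ⟶ P) [IsMonHom t] [Mono t] (hT : Red.IsTorus T)
    (huniv : ∀ (s : ↥(Spec (CommRingCat.of k)))
      (R : Over (Spec (CommRingCat.of (AlgebraicClosure ((Spec (CommRingCat.of k)).residueField s))))) [GrpObj R]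
      (v : R ⟶ Red.bc (Red.geomPt s) P) [IsMonHom v], Red.IsTorus R →
      ∃ z : R ⟶ Red.bc (Red.geomPt s) T, z ≫ (Over.pullback (Red.geomPt s)).map t = v) :
    Red.IsMaximalTorus (t ≫ i') := by
  haveI := h₁.1; haveI := h₁.2.1
  haveI : Mono i' := ⟨fun {Z} x y e' => hP.hom_ext e' (by
    rw [← cancel_mono i₁, Category.assoc, Category.assoc, ← hP.w, reassoc_of% e'])⟩
  refine ⟨inferInstance, inferInstance, hT, fun s T' _ j _ _ f hT' hf => ?_⟩
  let π := Red.geomPt s
  haveI : PreservesLimitsOfSize.{0, 0} (Over.pullback π) := (Over.mapPullbackAdj _).rightAdjoint_preservesLimits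
  haveI := DiagRep.isMonHom_bc_map π q
  haveI := DiagRep.isMonHom_bc_map π i'
  haveI := DiagRep.isMonHom_bc_map π t
  haveI : Surjective ((Over.pullback π).map q).left :=
    MorphismProperty.baseChange_map (P := @Surjective) π q inferInstance
  haveI : Smooth (Red.bc π G).hom := MorphismProperty.pullback_snd (P := @Smooth) _ _ inferInstance
  haveI : Smooth (Red.bc π Q).hom := MorphismProperty.pullback_snd (P := @Smooth) _ _ inferInstance
  haveI : QuasiCompact (Red.bc π G).hom := MorphismProperty.pullback_snd (P := @QuasiCompact) _ _ inferInstance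
  haveI : QuasiCompact (Red.bc π Q).hom := MorphismProperty.pullback_snd (P := @QuasiCompact) _ _ inferInstance
  haveI := AlbLib.geometricallyIntegral_grp G
  haveI := AlbLib.geometricallyIntegral_grp Q
  haveI : IsIntegral (Red.bc π G).left :=
    GeometricallyIntegral.geometrically_isIntegral _ _ _ (IsPullback.of_hasPullback G.hom π)
  haveI : IsIntegral (Red.bc π Q).left :=
    GeometricallyIntegral.geometrically_isIntegral _ _ _ (IsPullback.of_hasPullback Q.hom π)
  have h₁' : AGF.IsMaxTorus ((Over.pullback π).map i₁) :=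
    ⟨DiagRep.isMonHom_bc_map π i₁, inferInstance, RedRank.isTorus_bc h₁.2.2.1 π,
      fun T'' _ j' _ _ f' hT'' hf' => h₁.2.2.2 s T'' j' f' hT'' hf'⟩
  haveI : IsMonHom ((Over.pullback π).map t ≫ (Over.pullback π).map i') := inferInstance
  haveI : Mono ((Over.pullback π).map t ≫ (Over.pullback π).map i') := inferInstance
  have := isMaxTorus_preimage_closed ((Over.pullback π).map q) h₁' ((Over.pullback π).map i')
    ((Over.pullback π).map p) (hP.map (Over.pullback π)) ((Over.pullback π).map t) (RedRank.isTorus_bc hT π)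
    (fun R _ v _ hR => huniv s R v hR)
  exact this.2.2.2 T' j f hT' (by rw [hf, Functor.map_comp])

end Groth.Agent.MaxTorField
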