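import Groth.Agent.MaxTorFieldLib.Mu
import Groth.Agent.MaxTorFieldLib.Step
import Groth.Agent.MaxTorFieldLib.Preimage
import Groth.Agent.CentreRedLib.Main
import Groth.Agent.S3278
import Groth.Agent.S8431
import Groth.Agent.NormSubLib.Quot
import Groth.Agent.DimNoetherLib.Basic
import Groth.Agent.MaxTorConjLib.Preimage
import Groth.Agent.WeilResLib.Transporter
import Groth.Agent.GrpHomLib.Field
import Groth.Agent.MultTorusLib.Univ
import Groth.Agent.RedRankLib.Open
import Groth.Agent.RedRankLib.Tori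
import Groth.Agent.DualBCLib.GorApps
import Groth.Agent.LichtLib.Main

/-!
# Maximal tori of smooth connected affine groups over infinite fields
-/

set_option autoImplicit false
set_option linter.style.haveILetI false
set_option backward.isDefEq.respectTransparency false
set_option maxHeartbeats 1000000
set_option synthInstance.maxHeartbeats 200000

noncomputable section

universe u

open TensorProduct CategoryTheory CategoryTheory.Limits MonoidalCategory CartesianMonoidalCategory AlgebraicGeometry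
  CoactBr HopfRep
open scoped MonObj ComodLib

attribute [-instance] CategoryTheory.Hom.commGroup

namespace Groth.Agent.MaxTorField

attribute [local instance] CoactBr.braidedAlgSpecOf RCentre.algΓ

open RedCharZeroLib RedRank

variable {k : Type u} [Field k]

theorem isMonHom_one {S : Scheme.{u}} (X Y : Over S) [GrpObj X] [GrpObj Y] : IsMonHom (1 : X ⟶ Y) where
  one_hom := by rw [MonObj.comp_one, MonObj.one_eq_one]
  mul_hom := by
    rw [MonObj.comp_one, MonObj.mul_eq_mul, MonObj.comp_mul, tensorHom_fst, tensorHom_snd, MonObj.comp_one,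
      MonObj.comp_one, _root_.mul_one]

theorem subsingleton_hom_TA {K : Type u} [Field K] (X : Over (Spec (CommRingCat.of K))) :
    Subsingleton (X ⟶ sp K (MonoidAlgebra K (Multiplicative (Fin 0 → ℤ)))) := by
  refine ⟨fun a b => ?_⟩
  rw [← RCentre.toSp_fn a, ← RCentre.toSp_fn b]
  congr 2
  refine MonoidAlgebra.algHom_ext (fun g => ?_) ?_
  · have h1 : MonoidAlgebra.single (1 : Multiplicative (Fin 0 → ℤ)) (1 : K) = 1 := rfl
    rw [Subsingleton.elim g (1 : Multiplicative (Fin 0 → ℤ)), h1, map_one, map_one]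
  · exact Subsingleton.elim _ _

set_option backward.isDefEq.respectTransparency true in
theorem subsingleton_hom_DS {K : Type u} [Field K] (X : Over (Spec (CommRingCat.of K))) :
    Subsingleton (X ⟶ Red.DS (Spec (CommRingCat.of K)) (Fin 0 → ℤ)) := by
  obtain ⟨w, -, -⟩ := TorusField.exists_DS_iso K (Fin 0 → ℤ)
  have := subsingleton_hom_TA (K := K) X
  exact ⟨fun a b => (cancel_mono w.inv).1 (Subsingleton.elim _ _)⟩

set_option maxHeartbeats 6000000 in
/-- If all point derivations act locally nilpotently and the centre has no part of multiplicative type, the trivial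
torus is maximal. -/
theorem isMaximalTorus_one [Infinite k] {A : Type u} [CommRing A] [HopfAlgebra k A] [Algebra.FiniteType k A]
    [Smooth (sp k A).hom]
    (hnil : ∀ ξ : ComodLib.Dual' k A, IsDer ξ → ∀ v : AdMod k A, ∃ n, ξ ^ n • v = 0)
    (hZ : ∀ (S' : Scheme.{u}) (f : S' ⟶ Spec (CommRingCat.of k)) (H : Over S') [GrpObj H]
      (v : H ⟶ Red.bc f (sp k A)) [IsMonHom v], SGA3x.IsMultTypeFT H →
      (∀ (X : Over S') (x : X ⟶ H) (g : X ⟶ Red.bc f (sp k A)), (x ≫ v) * g = g * (x ≫ v)) → v = 1) :
    Red.IsMaximalTorus (1 : Red.DS (Spec (CommRingCat.of k)) (Fin 0 → ℤ) ⟶ sp k A) := by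
  set T₀ := Red.DS (Spec (CommRingCat.of k)) (Fin 0 → ℤ)
  haveI := isMonHom_one T₀ (sp k A)
  haveI : Mono (1 : T₀ ⟶ sp k A) := ⟨fun {Z} a b _ => by
    have := subsingleton_hom_DS (K := k) Z
    exact Subsingleton.elim _ _⟩
  let K : Type u := AlgebraicClosure k
  let π := DiagRep.baseHom k K
  haveI : Surjective π := TorusField.surjective_baseHom k K
  have hT₀ : Red.IsTorus T₀ := RedRank.isTorus_DS _ 0
  refine (Groth.Agent.S16791.result (G := sp k A) inferInstance inferInstance (1 : T₀ ⟶ sp k A) hT₀ π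
    inferInstance).2 ?_
  haveI : PreservesLimitsOfSize.{0, 0} (Over.pullback π) := (Over.mapPullbackAdj _).rightAdjoint_preservesLimits
  haveI := DiagRep.isMonHom_bc_map π (1 : T₀ ⟶ sp k A)
  haveI : Smooth (Red.bc π (sp k A)).hom := MorphismProperty.pullback_snd (P := @Smooth) _ _ inferInstance
  haveI : IsAffine (Red.bc π (sp k A)).left :=
    @IsAffine.of_isIso _ _ ((Over.forget _).mapIso (asIso (DiagRep.bcHom k K A))).hom _
      (inferInstanceAs (IsAffine (Spec (CommRingCat.of (K ⊗[k] A)))))
  refine BorelLib.isMaximalTorus_of_isMaxTorus ⟨inferInstance, inferInstance, RedRank.isTorus_bc hT₀ π,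
    fun T' _ j _ _ f hT' hf => ?_⟩
  obtain ⟨r, v, hv, hv', -⟩ := RedRank.exists_torus_rank hT'
  haveI := hv; haveI := hv'
  haveI := DiagRep.isMonHom_bcHom k K A
  haveI : IsMonHom (asIso (DiagRep.bcHom k K A)).hom := DiagRep.isMonHom_bcHom k K A
  let b := asIso (DiagRep.bcHom k K A)
  haveI : IsMonHom b.inv := inferInstance
  have hr : r = 0 := by
    haveI : IsMonHom b.hom := DiagRep.isMonHom_bcHom k K A
    haveI : IsMonHom (j ≫ b.hom) := @instIsMonHomComp _ _ _ _ _ _ _ _ _ j b.hom _ _
    haveI : IsMonHom (v.hom ≫ j ≫ b.hom) := @instIsMonHomComp _ _ _ _ _ _ _ _ _ v.hom (j ≫ b.hom) _ _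
    haveI : Mono (j ≫ b.hom) := @mono_comp _ _ _ _ _ j ‹Mono j› b.hom (IsIso.mono_of_iso _)
    haveI : Mono (v.hom ≫ j ≫ b.hom) := @mono_comp _ _ _ _ _ v.hom (IsIso.mono_of_iso _) (j ≫ b.hom) _
    refine eq_zero_of_nilp (K := K) hnil (fun N _ _ y _ hc => ?_) (v.hom ≫ j ≫ b.hom)
    obtain ⟨w, hw, hw'⟩ := TorusField.exists_DS_iso K N
    haveI := hw; haveI := hw'
    have hy : y ≫ b.inv = 1 := by
      refine hZ _ π _ _ (CentreRed.isMultTypeFT_of_iso _ ‹AddGroup.FG N› w) fun X x g => ?_
      have e : ((x ≫ y) * (g ≫ b.hom)) ≫ b.inv = ((g ≫ b.hom) * (x ≫ y)) ≫ b.inv :=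
        congrArg (fun z => z ≫ b.inv) (hc X x (g ≫ b.hom))
      rw [MonObj.mul_comp, MonObj.mul_comp, Category.assoc, Category.assoc, b.hom_inv_id, Category.comp_id] at e
      exact e
    rw [← Category.comp_id y, ← b.inv_hom_id, ← Category.assoc, hy, MonObj.one_comp]
  subst hr
  have hsub : ∀ X, Subsingleton (X ⟶ T') := fun X => by
    have := subsingleton_hom_TA (K := K) X
    exact ⟨fun a c => (cancel_mono v.inv).1 (Subsingleton.elim _ _)⟩
  refine ⟨1, ?_, (hsub _).elim _ _⟩
  have h0 := subsingleton_hom_DS (K := k) ((Over.map π).obj (Red.bc π T₀))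
  exact (((Over.mapPullbackAdj π).homEquiv _ _).symm).injective (h0.elim _ _)

/-- Finite dimensionality of affine groups of finite type. -/
theorem dim_ne_top (G : Over (Spec (CommRingCat.of k))) [IsAffine G.left] [LocallyOfFiniteType G.hom] :
    topologicalKrullDim ↥G.left ≠ ⊤ := by
  let e := Scheme.homeoOfIso G.left.isoSpec
  rw [IsHomeomorph.topologicalKrullDim_eq e e.isHomeomorph]
  show topologicalKrullDim (PrimeSpectrum Γ(G.left, ⊤)) ≠ ⊤
  rw [PrimeSpectrum.topologicalKrullDim_eq_ringKrullDim]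
  have hf : RingHom.FiniteType G.hom.appTop.hom :=
    (HasRingHomProperty.iff_of_isAffine (P := @LocallyOfFiniteType)).1 inferInstance
  letI := G.hom.appTop.hom.toAlgebra
  haveI : Algebra.FiniteType Γ(Spec (CommRingCat.of k), ⊤) Γ(G.left, ⊤) := hf
  haveI : IsNoetherianRing Γ(Spec (CommRingCat.of k), ⊤) :=
    isNoetherianRing_of_ringEquiv k (Scheme.ΓSpecIso (CommRingCat.of k)).commRingCatIsoToRingEquiv.symm
  refine (DualBCLib.dim_finiteType_lt_top (A := Γ(Spec (CommRingCat.of k), ⊤)) ?_).ne
  rw [ringKrullDim_eq_of_ringEquiv (Scheme.ΓSpecIso (CommRingCat.of k)).commRingCatIsoToRingEquiv,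
    ringKrullDim_eq_zero_of_field]
  exact WithBot.coe_lt_coe.2 (ENat.natCast_lt_top 0)

theorem lt_nat_of_lt_of_lt_succ {a b : WithBot ℕ∞} {n : ℕ} (h : a < b) (h' : b < ((n + 1 : ℕ) : WithBot ℕ∞)) :
    a < (n : WithBot ℕ∞) := by
  induction b using WithBot.recBotCoe with
  | bot => exact absurd h not_lt_bot
  | coe b =>
    have hb : b ≤ (n : ℕ∞) := by
      have h2 : b < ((n + 1 : ℕ) : ℕ∞) := WithBot.coe_lt_coe.1 h'
      exact Order.le_of_lt_add_one (by exact_mod_cast h2)
    exact h.trans_le (WithBot.coe_le_coe.2 hb)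

/-- Maximal tori of smooth connected affine groups over infinite fields, by induction on the dimension. -/
theorem exists_aux [Infinite k] (n : ℕ) :
    ∀ (G : Over (Spec (CommRingCat.of k))) [GrpObj G] [IsAffine G.left] [Smooth G.hom] [ConnectedSpace ↥G.left],
      topologicalKrullDim ↥G.left < (n : WithBot ℕ∞) →
      ∃ (T : Over (Spec (CommRingCat.of k))) (_ : GrpObj T) (i : T ⟶ G), Red.IsMaximalTorus i := by
  induction n with
  | zero =>
    intro G _ _ _ _ h
    exact absurd h (not_lt.2 (by
      simpa using LichtLib.zero_le_dim ↥G.left))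
  | succ n IH =>
    intro G _ _ _ _ hdim
    haveI : LocallyOfFiniteType G.hom := inferInstance
    obtain ⟨Z, _, z, ⟨hz, hzm, hZ, hzc, hzu⟩⟩ := CentreRed.exists_reductiveCentre G
    haveI := hz; haveI := hzm
    haveI : Mono z.left := inferInstanceAs (Mono ((Over.forget _).map z))
    haveI : IsAffineHom Z.hom := MultEq.isAffineHom_of_isMultTypeFT hZ
    haveI : LocallyOfFinitePresentation Z.hom := MultEq.lfp_of_isMultTypeFT hZ
    haveI : QuasiCompact z.left := WittGrpLib.quasiCompact_left z
    haveI : IsClosedImmersion z.left := GrpHom.isClosedImmersion_of_mono z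
    have hnorm : AlgGrp.IsNormalHom z := fun X g x => ⟨x, by rw [← hzc X x g, mul_inv_cancel_right]⟩
    obtain ⟨Q, _, q, hq, hQa, hQf, hqfl, hqs, hker⟩ := Groth.Agent.S3278.result k G Z z hnorm
    haveI := hq; haveI := hQa; haveI := hQf; haveI := hqfl; haveI := hqs
    haveI : Smooth Q.hom := NormSub.smooth_of_quot q
    haveI : ConnectedSpace ↥Q.left := q.left.surjective.connectedSpace q.left.continuous
    haveI : LocallyOfFiniteType q.left := GrpHom.lft_left q
    haveI : IsLocallyNoetherian Q.left := LocallyOfFiniteType.isLocallyNoetherian Q.hom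
    haveI : LocallyOfFinitePresentation q.left := inferInstance
    have hisq : RedSub.IsQuotient z q := ⟨hqs, hqfl, inferInstance, MultExt.isPullback_self z q hker⟩
    have hconn := isConnected_fibres (G := G)
    have hdQ : topologicalKrullDim ↥Q.left ≤ topologicalKrullDim ↥G.left :=
      DimNoetherLib.dim_le_of_surjective Q.hom q.left q.left.surjective
    suffices hQ : ∃ (T₁ : Over (Spec (CommRingCat.of k))) (_ : GrpObj T₁) (i₁ : T₁ ⟶ Q), Red.IsMaximalTorus i₁ by
      obtain ⟨T₁, _, i₁, h₁⟩ := hQ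
      haveI := h₁.1; haveI := h₁.2.1
      have hT₁ := h₁.2.2.1
      let P := pullback q i₁
      let i' : P ⟶ G := pullback.fst q i₁
      let p : P ⟶ T₁ := pullback.snd q i₁
      have hP : IsPullback i' p q i₁ := IsPullback.of_hasPullback q i₁
      haveI : Mono i' := ⟨fun {W} a b e => hP.hom_ext e (by
        rw [← cancel_mono i₁, Category.assoc, Category.assoc, ← hP.w, reassoc_of% e])⟩
      obtain ⟨_, hi'⟩ := WeilRes.exists_grpObj_of_pred i' (fun {X} g => ∃ y : X ⟶ T₁, y ≫ i₁ = g ≫ q)
        (fun {X} g => ⟨fun ⟨w, hw⟩ => ⟨w ≫ p, by rw [Category.assoc, ← hP.w, reassoc_of% hw]⟩,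
          fun ⟨y, hy⟩ => ⟨hP.lift g y hy.symm, hP.lift_fst _ _ _⟩⟩)
        ⟨1, by rw [MonObj.one_comp, MonObj.one_comp]⟩
        (fun a b ⟨y, hy⟩ ⟨y', hy'⟩ => ⟨y * y', by rw [MonObj.mul_comp, MonObj.mul_comp, hy, hy']⟩)
        (fun a ⟨y, hy⟩ => ⟨y⁻¹, by rw [GrpObj.inv_comp, GrpObj.inv_comp, hy]⟩)
      haveI := hi'
      haveI : IsMonHom (p ≫ i₁) := hP.w ▸ (inferInstance : IsMonHom (i' ≫ q))
      haveI : IsMonHom p := DiagRep.isMonHom_of_comp_mono p i₁
      -- the kernel of `p`
      have hzq : z ≫ q = toUnit Z ≫ η[Q] := hker.w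
      have hzq' : z ≫ q = 1 := hzq
      let kP : Z ⟶ P := hP.lift z 1 (by rw [hzq', MonObj.one_comp])
      have hk1 : kP ≫ i' = z := hP.lift_fst _ _ _
      haveI : IsMonHom (kP ≫ i') := hk1.symm ▸ hz
      haveI : IsMonHom kP := DiagRep.isMonHom_of_comp_mono kP i'
      haveI : Mono kP := mono_of_mono_fac hk1
      have hk2 : kP ≫ p = toUnit Z ≫ η[T₁] := hP.lift_snd _ _ _
      have hkerP : AlgGrp.IsKernel kP p := by
        refine IsPullback.of_right ?_ hk2 hP
        rw [hk1, IsMonHom.one_hom i₁]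
        exact hker
      haveI : Flat p.left := MorphismProperty.of_isPullback (hP.map (Over.forget _)) hqfl
      haveI : Surjective p.left := MorphismProperty.of_isPullback (hP.map (Over.forget _)) hqs
      haveI : LocallyOfFiniteType p.left :=
        MorphismProperty.of_isPullback (P := @LocallyOfFiniteType) (hP.map (Over.forget _))
          (inferInstanceAs (LocallyOfFiniteType q.left))
      haveI : LocallyOfFinitePresentation p.left :=
        MorphismProperty.of_isPullback (P := @LocallyOfFinitePresentation) (hP.map (Over.forget _))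
          (inferInstanceAs (LocallyOfFinitePresentation q.left))
      haveI : QuasiCompact p.left :=
        MorphismProperty.of_isPullback (P := @QuasiCompact) (hP.map (Over.forget _)) (WittGrpLib.quasiCompact_left q)
      haveI : IsAffineHom T₁.hom := MultEq.isAffineHom_of_isMultTypeFT (RedRank.isMultTypeFT_of_isTorus hT₁)
      haveI : LocallyOfFinitePresentation T₁.hom :=
        MultEq.lfp_of_isMultTypeFT (RedRank.isMultTypeFT_of_isTorus hT₁)
      haveI : QuasiCompact P.hom := by rw [← Over.w p]; infer_instance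
      haveI : LocallyOfFiniteType P.hom := by rw [← Over.w p]; infer_instance
      have hPq : RedSub.IsQuotient kP p :=
        ⟨inferInstance, inferInstance, inferInstance, MultExt.isPullback_self kP p hkerP⟩
      have hkc : ∀ (X : Over (Spec (CommRingCat.of k))) (x : X ⟶ Z) (g : X ⟶ P),
          (x ≫ kP) * g = g * (x ≫ kP) := fun X x g => by
        rw [← cancel_mono i', MonObj.mul_comp, MonObj.mul_comp, Category.assoc, hk1]
        exact hzc X x _
      have hcomm := Groth.Agent.S8431.result k P Z kP hkc T₁ p hPq hT₁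
      haveI : IsCommMonObj P := (isCommMonObj_iff_isMulCommutative P).2 fun X => ⟨⟨hcomm X⟩⟩
      have hPM : SGA3x.IsMultTypeFT P :=
        MultExt.isMultTypeFT_of_ext_comm P p kP hkerP hZ (RedRank.isMultTypeFT_of_isTorus hT₁)
      obtain ⟨_, ht, htm⟩ := MultTorus.exists_unique_maximalTorus hPM
      haveI := ht; haveI := htm.2.1
      exact ⟨_, _, _, isMaximalTorus_preimage q h₁ i' p hP (MultTorus.torIncl P) htm.2.2.1
        fun s R _ v _ hR => MultTorus.exists_factor_bc (Red.geomPt s) hR v⟩
    obtain ⟨A, _, _, e, he, he'⟩ := HomCorr.exists_hopf Q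
    haveI := he; haveI := he'
    haveI : IsIso e.hom.left := (Over.forget _).map_isIso e.hom
    haveI : Smooth (sp k A).hom := by rw [← Over.w e.hom]; infer_instance
    haveI : Algebra.FiniteType k A := by
      have : LocallyOfFiniteType (sp k A).hom := inferInstance
      exact RingHom.finiteType_algebraMap.1 ((HasRingHomProperty.Spec_iff (P := @LocallyOfFiniteType)).1 this)
    haveI : ConnectedSpace ↥(sp k A).left :=
      e.inv.left.surjective.connectedSpace e.inv.left.continuous
    suffices hA : ∃ (T₁ : Over (Spec (CommRingCat.of k))) (_ : GrpObj T₁) (i₁ : T₁ ⟶ sp k A),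
        Red.IsMaximalTorus i₁ by
      obtain ⟨T₁, _, i₁, h₁⟩ := hA
      exact ⟨T₁, _, i₁ ≫ e.hom, MaxTorConj.isMaximalTorus_iso e h₁⟩
    by_cases hnil : ∀ ξ : ComodLib.Dual' k A, IsDer ξ → ∀ v : AdMod k A, ∃ n, ξ ^ n • v = 0
    · refine ⟨_, _, _, isMaximalTorus_one hnil fun S' f H _ v _ hH hc => ?_⟩
      haveI := DiagRep.isMonHom_bc_map f e.hom
      have h1 : v ≫ (Over.pullback f).map e.hom = 1 := by
        refine MultExt.centre_trivial hconn z hZ hzc (fun S' f H _ v _ hH hc => hzu S' f H v hH hc) q hisq f _ hH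
          fun X x g => ?_
        have h0 : ((x ≫ v) * (g ≫ (Over.pullback f).map e.inv)) ≫ (Over.pullback f).map e.hom =
            ((g ≫ (Over.pullback f).map e.inv) * (x ≫ v)) ≫ (Over.pullback f).map e.hom :=
          congrArg (fun w => w ≫ (Over.pullback f).map e.hom) (hc X x (g ≫ (Over.pullback f).map e.inv))
        rw [MonObj.mul_comp, MonObj.mul_comp, Category.assoc, Category.assoc, ← Functor.map_comp, e.inv_hom_id,
          CategoryTheory.Functor.map_id, Category.comp_id] at h0
        exact h0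
      rw [← cancel_mono ((Over.pullback f).map e.hom), h1, MonObj.one_comp]
    · obtain ⟨H, M, _, _, u, h, hh, -, hHc, hu, -, hHm, hM, hnc⟩ := exists_mu hnil
      haveI := hh; haveI := hHc; haveI := hu; haveI := hHm
      obtain ⟨C, _, c, hc, hcc, hCa, hCs, hCc, hdC, hmax⟩ := exists_step (dim_ne_top (sp k A)) u h hM hnc
      haveI := hCa; haveI := hCs; haveI := hCc
      have hdA : topologicalKrullDim ↥(sp k A).left = topologicalKrullDim ↥Q.left :=
        IsHomeomorph.topologicalKrullDim_eq _ (Scheme.homeoOfIso ((Over.forget _).mapIso e)).isHomeomorph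
      obtain ⟨T, _, i, hi⟩ := IH C (lt_nat_of_lt_of_lt_succ hdC ((hdA.trans_le hdQ).trans_lt hdim))
      exact ⟨T, _, i ≫ c, hmax T i hi⟩

/-- A smooth connected affine group over an infinite field has a maximal torus. -/
theorem exists_maximalTorus_affine [Infinite k] (G : Over (Spec (CommRingCat.of k))) [GrpObj G] [IsAffine G.left]
    [Smooth G.hom] [ConnectedSpace ↥G.left] :
    ∃ (T : Over (Spec (CommRingCat.of k))) (_ : GrpObj T) (i : T ⟶ G), Red.IsMaximalTorus i := by
  obtain ⟨n, hn⟩ : ∃ n : ℕ, topologicalKrullDim ↥G.left < (n : WithBot ℕ∞) := by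
    have h := dim_ne_top G
    generalize topologicalKrullDim ↥G.left = d at h
    induction d using WithBot.recBotCoe with
    | bot => exact ⟨0, WithBot.bot_lt_coe _⟩
    | coe d =>
      obtain ⟨m, rfl⟩ := ENat.ne_top_iff_exists.1 (show d ≠ ⊤ from fun e => h (congrArg WithBot.some e))
      exact ⟨m + 1, WithBot.coe_lt_coe.2 (by exact_mod_cast Nat.lt_succ_self m)⟩
  exact exists_aux n G hn

end Groth.Agent.MaxTorField
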