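import Groth.Agent.MaxTorFieldLib.General
import Groth.Agent.S14547
import Groth.Agent.RCentreLib.SelfCent
import Groth.Agent.TorsTupleLib.Pieces

/-!
# Maximal tori over a field and their extensions
-/

set_option autoImplicit false
set_option linter.style.haveILetI false
set_option backward.isDefEq.respectTransparency false
set_option maxHeartbeats 1000000
set_option synthInstance.maxHeartbeats 200000

noncomputable section

universe u

open CategoryTheory CategoryTheory.Limits MonoidalCategory CartesianMonoidalCategory AlgebraicGeometry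
open scoped MonObj

attribute [-instance] CategoryTheory.Hom.commGroup

namespace Groth.Agent.MaxTorField

variable {k : Type u} [Field k]

/-- A geometrically maximal torus is maximal over the field. -/
theorem isMaxTorus_of_geom {G T : Over (Spec (CommRingCat.of k))} [GrpObj G] [GrpObj T] {i : T ⟶ G}
    (h : Red.IsMaximalTorus i) : AGF.IsMaxTorus i := by
  obtain ⟨h1, h2, h3, h4⟩ := h
  refine ⟨h1, h2, h3, fun T' _ j _ _ f hT' hf => ?_⟩
  let s : ↥(Spec (CommRingCat.of k)) := IsLocalRing.closedPoint k
  let π := Red.geomPt s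
  obtain ⟨_, -, hπ⟩ := BorelLib.exists_geomPt_algebra s
  haveI : Flat π := by
    show Flat (Red.geomPt s)
    rw [hπ, HasRingHomProperty.Spec_iff (P := @Flat)]
    exact RingHom.flat_algebraMap_iff.2 inferInstance
  haveI : Surjective π := ⟨fun y => ⟨IsLocalRing.closedPoint _, @Subsingleton.elim (PrimeSpectrum k) _ _ _⟩⟩
  haveI : QuasiCompact π := inferInstance
  haveI : PreservesLimitsOfSize.{0, 0} (Over.pullback π) := (Over.mapPullbackAdj _).rightAdjoint_preservesLimits
  haveI := DiagRep.isMonHom_bc_map π j
  exact Groth.Agent.S14547.isIso_of_bc π f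
    (h4 s _ ((Over.pullback π).map j) ((Over.pullback π).map f) (RedRank.isTorus_bc hT' π)
      (by rw [← Functor.map_comp, hf]))

/-- A torus of an affine smooth group which is maximal over the field is geometrically maximal. -/
theorem isMaximalTorus_of_maxTorus {G T : Over (Spec (CommRingCat.of k))} [GrpObj G] [GrpObj T] [IsAffine G.left]
    [Smooth G.hom] {i : T ⟶ G} (h : AGF.IsMaxTorus i) : Red.IsMaximalTorus i := by
  obtain ⟨hi, hm, hT, hmax⟩ := h
  haveI := hi; haveI := hm
  haveI := FixConn.connectedSpace_torus hT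
  haveI : IsCommMonObj T := (isCommMonObj_iff_isMulCommutative T).2 fun X => ⟨⟨RCentre.commute_torus hT⟩⟩
  obtain ⟨C, _, c, hc, hcc, hCa, hCs, hCc, hcent, ⟨uC, huCm, huC⟩, hC⟩ :=
    exists_cent (𝟙 T) i (RedRank.isMultTypeFT_of_isTorus hT)
  haveI := hc; haveI := hcc; haveI := hCa; haveI := hCs; haveI := hCc; haveI := huCm
  rw [Category.id_comp] at huC
  haveI : Mono c := DiagRep.mono_of_isClosedImmersion c hcc
  obtain ⟨T', _, i', hi'⟩ := exists_maximalTorus_affine' C
  haveI := hi'.1; haveI := hi'.2.1
  obtain ⟨w, hw⟩ := Groth.Agent.S8398.result _ C isConnected_fibres T' i' hi' T (RedRank.isMultTypeFT_of_isTorus hT)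
    uC fun X x g => by
      rw [← cancel_mono c, MonObj.mul_comp, MonObj.mul_comp, Category.assoc, huC]
      have := hcent X x g
      rwa [Category.id_comp] at this
  have e : w ≫ i' ≫ c = i := by rw [← Category.assoc, hw, huC]
  haveI : IsMonHom (w ≫ i' ≫ c) := by rw [e]; infer_instance
  haveI : IsMonHom w := DiagRep.isMonHom_of_comp_mono w (i' ≫ c)
  haveI := hmax T' (i' ≫ c) w hi'.2.2.1 e
  haveI : IsMonHom (asIso w).hom := ‹IsMonHom w›
  rw [← e]
  exact TorsTuple.isMaximalTorus_precomp (asIso w) (hC T' i' hi')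

/-- Maximality over the field and geometric maximality agree for affine smooth groups. -/
theorem isMaxTorus_iff {G T : Over (Spec (CommRingCat.of k))} [GrpObj G] [GrpObj T] [IsAffine G.left] [Smooth G.hom]
    {i : T ⟶ G} : AGF.IsMaxTorus i ↔ Red.IsMaximalTorus i :=
  ⟨isMaximalTorus_of_maxTorus, isMaxTorus_of_geom⟩

end Groth.Agent.MaxTorField
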