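import Groth.Agent.MaxTorFieldLib.Gen
import Groth.Agent.RCentreLib.Weights
import Groth.Agent.ComodLib.Coeff
import Groth.Agent.HopfFFLib.Normal.Points

/-!
# The representation of a group on its functions by conjugation
-/

set_option autoImplicit false
set_option backward.isDefEq.respectTransparency false

noncomputable section

universe u v

open TensorProduct HopfRep WithConv CategoryTheory MonoidalCategory CartesianMonoidalCategory AlgebraicGeometry CoactBr
open scoped ComodLib MonObj

attribute [-instance] CategoryTheory.Hom.commGroup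

namespace Groth.Agent.MaxTorField

attribute [local instance] CoactBr.braidedAlgSpecOf HopfFF.pointsGroup

variable {k : Type u} [Field k] {A : Type u} [CommRing A] [HopfAlgebra k A]

/-- Composition with a homomorphism of algebras, on points. -/
def pu {R R' : Type u} [CommRing R] [Algebra k R] [CommRing R'] [Algebra k R'] (h : R →ₐ[k] R') :
    WithConv (A →ₐ[k] R) →* WithConv (A →ₐ[k] R') :=
  MonoidHom.mk' (fun f : WithConv (A →ₐ[k] R) => toConv (h.comp f.ofConv)) fun f g => by
    apply WithConv.ext
    simp only [ofConv_toConv, AlgHom.comp_convMul_distrib]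

theorem pu_toConv {R R' : Type u} [CommRing R] [Algebra k R] [CommRing R'] [Algebra k R'] (h : R →ₐ[k] R')
    (f : A →ₐ[k] R) : pu h (toConv f) = toConv (h.comp f) := rfl

variable (k A) in
/-- Conjugation: the function `(g, h) ↦ a (h⁻¹ g h)`. -/
def adc : A →ₐ[k] A ⊗[k] A :=
  ((toConv (Algebra.TensorProduct.includeRight : A →ₐ[k] A ⊗[k] A))⁻¹ *
    toConv (Algebra.TensorProduct.includeLeft : A →ₐ[k] A ⊗[k] A) *
    toConv (Algebra.TensorProduct.includeRight : A →ₐ[k] A ⊗[k] A)).ofConv

theorem lift_adc {Q : Type u} [CommRing Q] [Algebra k Q] (α β : A →ₐ[k] Q) :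
    toConv ((Algebra.TensorProduct.lift α β fun _ _ => Commute.all _ _).comp (adc k A)) =
      (toConv β)⁻¹ * toConv α * toConv β := by
  let h := Algebra.TensorProduct.lift α β fun _ _ => Commute.all _ _
  have h1 : h.comp Algebra.TensorProduct.includeLeft = α := Algebra.TensorProduct.lift_comp_includeLeft α β fun _ _ => Commute.all _ _
  have h2 : h.comp Algebra.TensorProduct.includeRight = β := Algebra.TensorProduct.lift_comp_includeRight α β fun _ _ => Commute.all _ _
  show pu h (toConv (adc k A)) = _
  rw [adc, toConv_ofConv, map_mul, map_mul, map_inv, pu_toConv, pu_toConv, h1, h2]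

theorem grp_aux {Γ : Type*} [Group Γ] (a b c : Γ) : a⁻¹ * (b⁻¹ * c * b) * a = (b * a)⁻¹ * c * (b * a) := by
  group

theorem adc_coassoc :
    (Algebra.TensorProduct.assoc k k k A A A).toAlgHom.comp
      ((Algebra.TensorProduct.map (adc k A) (AlgHom.id k A)).comp (adc k A)) =
      (Algebra.TensorProduct.map (AlgHom.id k A) (Bialgebra.comulAlgHom k A)).comp (adc k A) := by
  let i1 : A →ₐ[k] A ⊗[k] (A ⊗[k] A) := Algebra.TensorProduct.includeLeft
  let i2 : A →ₐ[k] A ⊗[k] (A ⊗[k] A) :=
    (Algebra.TensorProduct.includeRight).comp Algebra.TensorProduct.includeLeft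
  let i3 : A →ₐ[k] A ⊗[k] (A ⊗[k] A) :=
    (Algebra.TensorProduct.includeRight).comp Algebra.TensorProduct.includeRight
  let s := (Algebra.TensorProduct.assoc k k k A A A).toAlgHom
  have hL : (s.comp (Algebra.TensorProduct.map (adc k A) (AlgHom.id k A))).comp Algebra.TensorProduct.includeLeft =
      (Algebra.TensorProduct.lift i1 i2 fun _ _ => Commute.all _ _).comp (adc k A) := by
    have e : s.comp Algebra.TensorProduct.includeLeft = Algebra.TensorProduct.lift i1 i2 fun _ _ => Commute.all _ _ :=
      Algebra.TensorProduct.ext (AlgHom.ext fun a => by simp [s, i1, Algebra.TensorProduct.one_def])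
        (AlgHom.ext fun a => by simp [s, i2])
    rw [← e]
    exact AlgHom.ext fun a => by simp
  have hR : (s.comp (Algebra.TensorProduct.map (adc k A) (AlgHom.id k A))).comp Algebra.TensorProduct.includeRight =
      i3 := AlgHom.ext fun a => by simp [s, i3, Algebra.TensorProduct.one_def]
  have hL' : (Algebra.TensorProduct.map (AlgHom.id k A) (Bialgebra.comulAlgHom k A)).comp
      Algebra.TensorProduct.includeLeft = i1 := AlgHom.ext fun a => by simp [i1]
  have hR' : toConv ((Algebra.TensorProduct.map (AlgHom.id k A) (Bialgebra.comulAlgHom k A)).comp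
      Algebra.TensorProduct.includeRight) = toConv i2 * toConv i3 := by
    rw [show (Algebra.TensorProduct.map (AlgHom.id k A) (Bialgebra.comulAlgHom k A)).comp
        Algebra.TensorProduct.includeRight =
        (Algebra.TensorProduct.includeRight : A ⊗[k] A →ₐ[k] A ⊗[k] (A ⊗[k] A)).comp (Bialgebra.comulAlgHom k A) from
      AlgHom.ext fun a => by simp, ← pu_toConv, DiagRep.toConv_comul, map_mul]
    rfl
  simp only [s] at hL hR
  rw [← AlgHom.comp_assoc]
  apply WithConv.toConv_injective
  show pu _ (toConv (adc k A)) = pu _ (toConv (adc k A))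
  conv_lhs => arg 2; rw [adc, toConv_ofConv]
  conv_rhs => arg 2; rw [adc, toConv_ofConv]
  simp only [map_mul, map_inv, pu_toConv, hL, hR, hL', hR', lift_adc]
  exact grp_aux (toConv i3) (toConv i2) (toConv i1)

theorem adc_counit :
    (Algebra.TensorProduct.lift (AlgHom.id k A) ((Algebra.ofId k A).comp (Bialgebra.counitAlgHom k A))
      fun _ _ => Commute.all _ _).comp (adc k A) = AlgHom.id k A := by
  apply WithConv.toConv_injective
  rw [lift_adc]
  have h1 : toConv ((Algebra.ofId k A).comp (Bialgebra.counitAlgHom k A)) = (1 : WithConv (A →ₐ[k] A)) := rfl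
  rw [h1, inv_one, one_mul, mul_one]

/-- The functions, as the conjugation representation. -/
def AdMod (_k A : Type u) : Type u := A

instance : AddCommGroup (AdMod k A) := inferInstanceAs (AddCommGroup A)
instance : Module k (AdMod k A) := inferInstanceAs (Module k A)

variable (k A) in
/-- A function as an element of the conjugation representation. -/
def toAd : A ≃ₗ[k] AdMod k A := LinearEquiv.refl k A

instance adComod : Comod k A (AdMod k A) where
  coact := (adc k A).toLinearMap
  coassoc := LinearMap.ext fun a => by
    have h := DFunLike.congr_fun (adc_coassoc (k := k) (A := A)) (show A from a)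
    have e1 : ∀ z : A ⊗[k] A, Algebra.TensorProduct.map (adc k A) (AlgHom.id k A) z =
        (adc k A).toLinearMap.rTensor A z := fun z => by
      induction z with
      | zero => simp
      | add p q hp hq => simp only [map_add, hp, hq]
      | tmul p q => simp
    have e2 : ∀ z : A ⊗[k] A, Algebra.TensorProduct.map (AlgHom.id k A) (Bialgebra.comulAlgHom k A) z =
        (CoalgebraStruct.comul (R := k) (A := A)).lTensor A z := fun z => by
      induction z with
      | zero => simp
      | add p q hp hq => simp only [map_add, hp, hq]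
      | tmul p q => simp
    simp only [AlgHom.comp_apply, e1, e2] at h
    exact h
  counit_comp := LinearMap.ext fun a => by
    have h := DFunLike.congr_fun (adc_counit (k := k) (A := A)) (show A from a)
    have e : ∀ z : A ⊗[k] A, Algebra.TensorProduct.lift (AlgHom.id k A)
        ((Algebra.ofId k A).comp (Bialgebra.counitAlgHom k A)) (fun _ _ => Commute.all _ _) z =
        TensorProduct.rid k A ((CoalgebraStruct.counit (R := k) (A := A)).lTensor A z) := fun z => by
      induction z with
      | zero => simp
      | add p q hp hq => simp only [map_add, hp, hq]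
      | tmul p q => simp [Algebra.smul_def, mul_comm]
    rw [AlgHom.comp_apply, e, AlgHom.id_apply] at h
    show (CoalgebraStruct.counit (R := k) (A := A)).lTensor A (adc k A (show A from a)) = (show A from a) ⊗ₜ[k] (1 : k)
    apply (TensorProduct.rid k A).injective
    rw [h, TensorProduct.rid_tmul, one_smul]

theorem coact_toAd (a : A) : Comod.coact (k := k) (A := A) (toAd k A a) = adc k A a := rfl

/-- The conjugation of a central subgroup is trivial. -/
theorem map_adc_of_central {C : Type u} [CommRing C] [Algebra k C] (ψ : A →ₐ[k] C)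
    (hc : ∀ (X : Over (Spec (CommRingCat.of k))) (x : X ⟶ sp k C) (g : X ⟶ sp k A),
      (x ≫ pt ψ) * g = g * (x ≫ pt ψ)) :
    (Algebra.TensorProduct.map (AlgHom.id k A) ψ).comp (adc k A) = Algebra.TensorProduct.includeLeft := by
  let iC : C →ₐ[k] A ⊗[k] C := Algebra.TensorProduct.includeRight
  have e : Algebra.TensorProduct.map (AlgHom.id k A) ψ =
      Algebra.TensorProduct.lift (Algebra.TensorProduct.includeLeft : A →ₐ[k] A ⊗[k] C) (iC.comp ψ)
        fun _ _ => Commute.all _ _ :=
    Algebra.TensorProduct.ext (AlgHom.ext fun a => by simp) (AlgHom.ext fun a => by simp [iC])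
  apply WithConv.toConv_injective
  rw [e, lift_adc]
  have hcomm : toConv (Algebra.TensorProduct.includeLeft : A →ₐ[k] A ⊗[k] C) * toConv (iC.comp ψ) =
      toConv (iC.comp ψ) * toConv Algebra.TensorProduct.includeLeft := by
    refine WithConv.ext (pt_injective ?_)
    rw [← DiagRep.pt_mul_conv, ← DiagRep.pt_mul_conv, pt_comp]
    exact (hc _ (pt iC) (pt Algebra.TensorProduct.includeLeft)).symm
  rw [_root_.mul_assoc, hcomm, inv_mul_cancel_left]

end Groth.Agent.MaxTorField
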