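import Groth.Agent.MaxTorFieldLib.Conj
import Groth.Agent.LieTorusLib.Grade
import Groth.Agent.HopfFFLib.Normal.BaseChange
import Groth.Agent.HopfPointsLib.Scheme
import Groth.Agent.DiagRepLib.Coords
import Mathlib.Algebra.MvPolynomial.Funext
import Mathlib.LinearAlgebra.Eigenspace.Basic

/-!
# Lie elements acting nilpotently, and the weights of tori

Over an infinite field, if every point derivation acts locally nilpotently by conjugation, then the derivations
coming from a torus over an extension field do so too: the weights vanish in the field.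
-/

set_option autoImplicit false
set_option backward.isDefEq.respectTransparency false
set_option maxHeartbeats 800000

noncomputable section

universe u v

open TensorProduct HopfRep WithConv CategoryTheory MonoidalCategory CartesianMonoidalCategory AlgebraicGeometry CoactBr
open scoped ComodLib MonObj

attribute [-instance] CategoryTheory.Hom.commGroup

namespace Groth.Agent.MaxTorField

attribute [local instance] CoactBr.braidedAlgSpecOf HopfFF.pointsGroup

open RedCharZeroLib

variable {k : Type u} [Field k] {A : Type u} [CommRing A] [HopfAlgebra k A]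

/-- A combination of functionals, with values in an algebra. -/
def comb {R : Type u} [CommRing R] [Algebra k R] {d : ℕ} (δ : Fin d → ComodLib.Dual' k A) (w : Fin d → R) :
    WithConv (A →ₗ[k] R) :=
  toConv (∑ l, LinearMap.toSpanSingleton k R (w l) ∘ₗ (δ l).ofConv)

theorem comb_apply {R : Type u} [CommRing R] [Algebra k R] {d : ℕ} (δ : Fin d → ComodLib.Dual' k A) (w : Fin d → R)
    (a : A) : comb δ w a = ∑ l, δ l a • w l := by
  simp [comb, LinearMap.sum_apply]

/-- Values of powers of a combination are polynomials in the coefficients. -/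
theorem exists_poly {d : ℕ} (δ : Fin d → ComodLib.Dual' k A) :
    ∀ (N : ℕ) (b : A), ∃ F : MvPolynomial (Fin d) k, ∀ (R : Type u) [CommRing R] [Algebra k R] (w : Fin d → R),
      (comb δ w ^ N) b = MvPolynomial.aeval w F := by
  intro N
  induction N with
  | zero =>
    intro b
    refine ⟨MvPolynomial.C (CoalgebraStruct.counit (R := k) b), fun R _ _ w => ?_⟩
    rw [pow_zero, MvPolynomial.aeval_C]
    rfl
  | succ N ih =>
    intro b
    suffices h : ∀ z : A ⊗[k] A, ∃ F : MvPolynomial (Fin d) k, ∀ (R : Type u) [CommRing R] [Algebra k R]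
        (w : Fin d → R), LinearMap.mul' k R (TensorProduct.map (comb δ w).ofConv (comb δ w ^ N).ofConv z) =
          MvPolynomial.aeval w F by
      obtain ⟨F, hF⟩ := h (CoalgebraStruct.comul (R := k) b)
      refine ⟨F, fun R _ _ w => ?_⟩
      rw [pow_succ', LinearMap.convMul_apply]
      exact hF R w
    intro z
    induction z with
    | zero => exact ⟨0, fun R _ _ w => by simp⟩
    | add p q hp hq =>
      obtain ⟨F, hF⟩ := hp
      obtain ⟨G, hG⟩ := hq
      exact ⟨F + G, fun R _ _ w => by rw [map_add, map_add, map_add, hF R w, hG R w]⟩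
    | tmul p q =>
      obtain ⟨F, hF⟩ := ih q
      refine ⟨(∑ l, MvPolynomial.C (δ l p) * MvPolynomial.X l) * F, fun R _ _ w => ?_⟩
      rw [TensorProduct.map_tmul, LinearMap.mul'_apply, show (comb δ w ^ N).ofConv q = _ from hF R w,
        show (comb δ w).ofConv p = _ from comb_apply δ w p, map_mul, map_sum]
      congr 1
      exact Finset.sum_congr rfl fun l _ => by rw [map_mul, MvPolynomial.aeval_C, MvPolynomial.aeval_X, Algebra.smul_def]

theorem comb_isDer {d : ℕ} (δ : Fin d → ComodLib.Dual' k A) (hδ : ∀ l, IsDer (δ l)) (w : Fin d → k) :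
    IsDer (comb δ w : ComodLib.Dual' k A) := fun a b => by
  show comb δ w (a * b) = _ * comb δ w b + _ * comb δ w a
  rw [comb_apply, comb_apply, comb_apply, Finset.mul_sum, Finset.mul_sum, ← Finset.sum_add_distrib]
  refine Finset.sum_congr rfl fun l _ => ?_
  rw [hδ l a b, smul_eq_mul, smul_eq_mul, smul_eq_mul]
  ring

/-- A derivation with values in an extension field is a combination of derivations. -/
theorem exists_comb [Algebra.FiniteType k A] {K : Type u} [Field K] [Algebra k K] (D : WithConv (A →ₗ[k] K))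
    (hD : ∀ a b : A, D (a * b) = CoalgebraStruct.counit (R := k) a • D b + CoalgebraStruct.counit (R := k) b • D a) :
    ∃ (d : ℕ) (δ : Fin d → ComodLib.Dual' k A) (w : Fin d → K), (∀ l, IsDer (δ l)) ∧ comb δ w = D := by
  classical
  obtain ⟨S, hS⟩ := Algebra.FiniteType.out (R := k) (A := A)
  have h1 : D (1 : A) = 0 := by
    have := hD 1 1
    rw [one_mul, Bialgebra.counit_one, one_smul] at this
    exact left_eq_add.1 this
  let W : Submodule k K := Submodule.span k (D.ofConv '' (S : Set A))
  have hW : ∀ a : A, D a ∈ W := by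
    intro a
    have ha : a ∈ Algebra.adjoin k (S : Set A) := by rw [hS]; trivial
    induction ha using Algebra.adjoin_induction with
    | mem x hx => exact Submodule.subset_span ⟨x, hx, rfl⟩
    | algebraMap r =>
      rw [Algebra.algebraMap_eq_smul_one]
      show D.ofConv (r • 1) ∈ W
      rw [map_smul, show D.ofConv 1 = 0 from h1, smul_zero]
      exact zero_mem _
    | add x y _ _ hx hy =>
      show D.ofConv (x + y) ∈ W
      rw [map_add]
      exact add_mem hx hy
    | mul x y _ _ hx hy =>
      show D (x * y) ∈ W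
      rw [hD]
      exact add_mem (W.smul_mem _ hy) (W.smul_mem _ hx)
  haveI : Module.Finite k W := Module.Finite.span_of_finite k (S.finite_toSet.image _)
  let b := Module.finBasis k W
  let D' : A →ₗ[k] W := D.ofConv.codRestrict W hW
  refine ⟨Module.finrank k W, fun l => toConv (b.coord l ∘ₗ D'), fun l => (b l : K), fun l x y => ?_, ?_⟩
  · have e : D' (x * y) = CoalgebraStruct.counit (R := k) x • D' y + CoalgebraStruct.counit (R := k) y • D' x :=
      Subtype.ext (hD x y)
    show b.coord l (D' (x * y)) = _ * b.coord l (D' y) + _ * b.coord l (D' x)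
    rw [e, map_add, map_smul, map_smul, smul_eq_mul, smul_eq_mul]
  · refine WithConv.ext (LinearMap.ext fun a => ?_)
    show comb _ _ a = _
    rw [comb_apply]
    have e := congrArg W.subtype (b.sum_repr (D' a))
    rw [map_sum] at e
    exact e

/-- Uniform nilpotency in the conjugation representation. -/
theorem exists_uniform (a : A) :
    ∃ N : ℕ, ∀ ξ : ComodLib.Dual' k A, (∀ v : AdMod k A, ∃ n, ξ ^ n • v = 0) → ∀ n, N ≤ n → ξ ^ n • toAd k A a = 0 := by
  let S : Submodule k (AdMod k A) := (Submodule.span (ComodLib.Dual' k A) {toAd k A a}).restrictScalars k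
  haveI : FiniteDimensional k S := ComodLib.finite_span_singleton A (toAd k A a)
  refine ⟨Module.finrank k S, fun ξ hξ n hn => ?_⟩
  have hst : ∀ v ∈ S, Algebra.lsmul k k (AdMod k A) ξ v ∈ S := fun v hv =>
    (Submodule.span (ComodLib.Dual' k A) {toAd k A a}).smul_mem ξ hv
  let f : Module.End k S := (Algebra.lsmul k k (AdMod k A) ξ).restrict hst
  have hf : ∀ (m : ℕ) (v : S), (((f ^ m) v : S) : AdMod k A) = ξ ^ m • (v : AdMod k A) := by
    intro m
    induction m with
    | zero => intro v; rw [pow_zero, pow_zero, one_smul]; rfl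
    | succ m ih =>
      intro v
      rw [pow_succ', Module.End.mul_apply, pow_succ' ξ, mul_smul, ← ih]
      rfl
  let v₀ : S := ⟨toAd k A a, Submodule.subset_span rfl⟩
  obtain ⟨m, hm⟩ := hξ (toAd k A a)
  have h1 : v₀ ∈ LinearMap.ker (f ^ m) := LinearMap.mem_ker.2 (Subtype.ext (by rw [hf]; exact hm))
  have h2 := LinearMap.mem_ker.1 (Module.End.ker_pow_le_ker_pow_finrank f m h1)
  obtain ⟨e, rfl⟩ := Nat.exists_eq_add_of_le hn
  have h3 : ξ ^ Module.finrank k S • toAd k A a = 0 := by
    rw [← hf _ v₀, h2]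
    rfl
  rw [add_comm, pow_add, mul_smul, h3, smul_zero]

section torus

variable {K : Type u} [Field K] [Algebra k K]

/-- The restriction of a functional on the extended algebra. -/
def resL (F : WithConv (K ⊗[k] A →ₗ[K] K)) : WithConv (A →ₗ[k] K) :=
  toConv ((F.ofConv.restrictScalars k) ∘ₗ (Algebra.TensorProduct.includeRight : A →ₐ[k] K ⊗[k] A).toLinearMap)

theorem resL_apply (F : WithConv (K ⊗[k] A →ₗ[K] K)) (a : A) : resL F a = F ((1 : K) ⊗ₜ[k] a) := rfl

set_option synthInstance.maxHeartbeats 200000 in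
theorem resL_mul (F G : WithConv (K ⊗[k] A →ₗ[K] K)) : resL (F * G) = resL F * resL G := by
  refine WithConv.ext (LinearMap.ext fun a => ?_)
  show (F * G) ((1 : K) ⊗ₜ[k] a) = (resL F * resL G) a
  rw [LinearMap.convMul_apply, LinearMap.convMul_apply]
  simp only [TensorProduct.comul_tmul, Bialgebra.comul_one, Algebra.TensorProduct.one_def]
  generalize CoalgebraStruct.comul (R := k) a = z
  induction z using TensorProduct.induction_on with
  | zero => simp
  | add z w hz hw => simp only [tmul_add, map_add, hz, hw]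
  | tmul x y => simp [resL]

theorem resL_pow (F : WithConv (K ⊗[k] A →ₗ[K] K)) : ∀ n : ℕ, resL (F ^ n) = resL F ^ n
  | 0 => by
    refine WithConv.ext (LinearMap.ext fun a => ?_)
    show (1 : WithConv (K ⊗[k] A →ₗ[K] K)) ((1 : K) ⊗ₜ[k] a) = (1 : WithConv (A →ₗ[k] K)) a
    simp [LinearMap.convOne_apply, TensorProduct.counit_tmul, Algebra.smul_def]
  | n + 1 => by rw [pow_succ, pow_succ, resL_mul, resL_pow F n]

variable {r : ℕ}

local notation "L" => MonoidAlgebra K (Multiplicative (Fin r → ℤ))

/-- The functional `δ^n` on the group algebra of the characters. -/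
def ev (δ : (Fin r → ℤ) →+ K) (n : ℕ) : ComodLib.Dual' K L :=
  toConv ((MonoidAlgebra.basis (Multiplicative (Fin r → ℤ)) K).constr K fun m => δ (Multiplicative.toAdd m) ^ n)

theorem ev_single (δ : (Fin r → ℤ) →+ K) (n : ℕ) (m : Multiplicative (Fin r → ℤ)) :
    ev δ n (MonoidAlgebra.single m (1 : K)) = δ (Multiplicative.toAdd m) ^ n := by
  rw [← MonoidAlgebra.basis_apply]
  exact Module.Basis.constr_basis _ _ _ _

theorem ev_pow (δ : (Fin r → ℤ) →+ K) : ∀ n : ℕ, ev δ 1 ^ n = ev δ n
  | 0 => by
    refine WithConv.ext ((MonoidAlgebra.basis (Multiplicative (Fin r → ℤ)) K).ext fun m => ?_)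
    rw [MonoidAlgebra.basis_apply]
    show (1 : ComodLib.Dual' K L) (MonoidAlgebra.single m 1) = _
    rw [show (ev δ 0).ofConv _ = _ from ev_single δ 0 m, pow_zero]
    simp [LinearMap.convOne_apply, MonoidAlgebra.counit_single]
  | n + 1 => by
    refine WithConv.ext ((MonoidAlgebra.basis (Multiplicative (Fin r → ℤ)) K).ext fun m => ?_)
    rw [MonoidAlgebra.basis_apply, pow_succ, ev_pow δ n]
    show (ev δ n * ev δ 1) (MonoidAlgebra.single m 1) = ev δ (n + 1) (MonoidAlgebra.single m 1)
    rw [LinearMap.convMul_apply, MonoidAlgebra.comul_single]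
    simp only [CommSemiring.comul_apply, TensorProduct.map_tmul, MonoidAlgebra.lsingle_apply,
      LinearMap.mul'_apply]
    rw [show (ev δ n).ofConv _ = _ from ev_single δ n m, show (ev δ 1).ofConv _ = _ from ev_single δ 1 m, ev_single,
      pow_one, pow_succ]

theorem ev_isDer (δ : (Fin r → ℤ) →+ K) : IsDer (ev δ 1) := by
  intro a b
  induction a using MonoidAlgebra.induction_on with
  | of g =>
    induction b using MonoidAlgebra.induction_on with
    | of h =>
      simp only [MonoidAlgebra.of_apply, MonoidAlgebra.single_mul_single, mul_one, ev_single, pow_one, toAdd_mul,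
        map_add, MonoidAlgebra.counit_single, CommSemiring.counit_apply, one_mul]
      ring
    | add p q hp hq =>
      rw [mul_add]
      simp only [map_add] at hp hq ⊢
      rw [hp, hq]; ring
    | smul c p hp =>
      rw [mul_smul_comm]
      simp only [map_smul, smul_eq_mul] at hp ⊢
      rw [hp]; ring
  | add p q hp hq =>
    rw [add_mul]
    simp only [map_add] at hp hq ⊢
    rw [hp, hq]; ring
  | smul c p hp =>
    rw [smul_mul_assoc]
    simp only [map_smul, smul_eq_mul] at hp ⊢
    rw [hp]; ring

theorem pt_inv_conv {R B C : Type u} [CommRing R] [CommRing B] [HopfAlgebra R B] [CommRing C] [Algebra R C]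
    (f : B →ₐ[R] C) : pt (f.comp (HopfAlgebra.antipodeAlgHom R B)) = (pt f)⁻¹ := by
  refine eq_inv_of_mul_eq_one_left ?_
  rw [DiagRep.pt_mul_conv, ← DiagRep.pt_one]
  congr 1
  have h := AlgHom.comp_convMul_distrib f (toConv (HopfAlgebra.antipodeAlgHom R B)) (toConv (AlgHom.id R B))
  rw [AlgHom.antipode_id_cancel] at h
  simp only [ofConv_toConv, AlgHom.comp_id] at h
  rw [← h]
  exact AlgHom.ext fun b => by simp

variable [Algebra.FiniteType k A] [Infinite k]

/-- **Key lemma.** If all point derivations act locally nilpotently by conjugation, the weights of a torus over an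
extension field vanish in the field. -/
theorem cast_eq_zero_of_wt_ne
    (hnil : ∀ ξ : ComodLib.Dual' k A, IsDer ξ → ∀ v : AdMod k A, ∃ n, ξ ^ n • v = 0)
    (j : sp K L ⟶ sp K (K ⊗[k] A)) [IsMonHom j] [IsMonHom j⁻¹] (a' : K ⊗[k] A) (m : Multiplicative (Fin r → ℤ))
    (hne : RCentre.wt j a' m ≠ 0) (l : Fin r) : ((Multiplicative.toAdd m l : ℤ) : K) = 0 := by
  classical
  obtain ⟨φ₀, hφ₀⟩ := DiagRep.exists_pt j⁻¹
  haveI : IsMonHom (pt φ₀) := hφ₀ ▸ inferInstance
  obtain ⟨φ, rfl⟩ := HopfPoints.exists_bialgHom φ₀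
  let δ : (Fin r → ℤ) →+ K :=
    { toFun := fun m => (m l : K)
      map_zero' := by simp
      map_add' := fun x y => by simp }
  let F : ℕ → WithConv (K ⊗[k] A →ₗ[K] K) := fun n => toConv ((ev δ n).ofConv ∘ₗ (φ : K ⊗[k] A →ₐ[K] L).toLinearMap)
  have hF : ∀ n, F 1 ^ n = F n := by
    intro n
    induction n with
    | zero =>
      refine WithConv.ext (LinearMap.ext fun x => ?_)
      show (1 : WithConv (K ⊗[k] A →ₗ[K] K)) x = (ev δ 0) (φ x)
      rw [← ev_pow δ 0, pow_zero]
      simp [LinearMap.convOne_apply, CoalgHomClass.counit_comp_apply]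
    | succ n ih =>
      refine WithConv.ext (LinearMap.ext fun x => ?_)
      rw [pow_succ, ih]
      show (F n * F 1) x = (ev δ (n + 1)) (φ x)
      rw [← ev_pow δ (n + 1), pow_succ, ev_pow δ n, LinearMap.convMul_apply, LinearMap.convMul_apply,
        show CoalgebraStruct.comul (R := K) (φ x) = TensorProduct.map (φ : K ⊗[k] A →ₐ[K] L).toLinearMap
          (φ : K ⊗[k] A →ₐ[K] L).toLinearMap (CoalgebraStruct.comul (R := K) x) from
            (CoalgHomClass.map_comp_comul_apply φ x).symm,
        TensorProduct.map_map]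
  let D := resL (F 1)
  have hD : ∀ a b : A, D (a * b) = CoalgebraStruct.counit (R := k) a • D b + CoalgebraStruct.counit (R := k) b • D a := by
    intro a b
    show (ev δ 1) ((φ : K ⊗[k] A →ₐ[K] L) ((1 : K) ⊗ₜ[k] (a * b))) = _
    rw [show (1 : K) ⊗ₜ[k] (a * b) = (1 : K) ⊗ₜ[k] a * (1 : K) ⊗ₜ[k] b by simp, map_mul, ev_isDer δ _ _]
    simp only [BialgHom.coe_coe, CoalgHomClass.counit_comp_apply, TensorProduct.counit_tmul, Algebra.smul_def]
    simp [D, F, resL, Algebra.smul_def]
  obtain ⟨d, δs, w, hδs, hw⟩ := exists_comb D hD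
  -- the derivation of the torus acts nilpotently
  let T : ℕ → (K ⊗[k] A) ⊗[K] L →ₗ[K] K ⊗[k] A := fun n => ComodLib.slice (ev δ n).ofConv
  have key : ∀ x : K ⊗[k] A, ∃ N, ∀ n, N ≤ n → T n (RCentre.coact j x) = 0 := by
    intro x
    induction x with
    | zero => exact ⟨0, fun n _ => by simp⟩
    | add p q hp hq =>
      obtain ⟨N₁, h₁⟩ := hp
      obtain ⟨N₂, h₂⟩ := hq
      exact ⟨max N₁ N₂, fun n hn => by
        rw [map_add, map_add, h₁ n (le_trans (le_max_left _ _) hn), h₂ n (le_trans (le_max_right _ _) hn), add_zero]⟩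
    | tmul c a =>
      obtain ⟨N, hN⟩ := exists_uniform (k := k) a
      refine ⟨N, fun n hn => ?_⟩
      have hca : c ⊗ₜ[k] a = c • ((1 : K) ⊗ₜ[k] a) := by rw [TensorProduct.smul_tmul', smul_eq_mul, mul_one]
      rw [hca, map_smul, map_smul]
      refine smul_eq_zero_of_right c ?_
      -- the conjugation over the extension
      let iL : K ⊗[k] A →ₐ[K] (K ⊗[k] A) ⊗[K] L := Algebra.TensorProduct.includeLeft
      let iR : L →ₐ[K] (K ⊗[k] A) ⊗[K] L := Algebra.TensorProduct.includeRight
      let ψ : K ⊗[k] A →ₐ[K] (K ⊗[k] A) ⊗[K] L := iR.comp (φ : K ⊗[k] A →ₐ[K] L)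
      have hco : toConv (RCentre.coact j) = (toConv ψ)⁻¹ * toConv iL * toConv ψ := by
        refine WithConv.ext (pt_injective ?_)
        rw [← DiagRep.pt_mul_conv, ← DiagRep.pt_mul_conv]
        show pt (RCentre.coact j) = pt (ψ.comp (HopfAlgebra.antipodeAlgHom K (K ⊗[k] A))) * pt iL * pt ψ
        rw [RCentre.pt_coact, pt_inv_conv]
        have hj : j = (pt (φ : K ⊗[k] A →ₐ[K] L))⁻¹ := by rw [← hφ₀, inv_inv]
        show (pt iR ≫ j) * pt iL * (pt iR ≫ j)⁻¹ = _
        conv_lhs => rw [hj]
        rw [GrpObj.comp_inv, inv_inv, ← pt_comp]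
      have hres : ((RCentre.coact j).restrictScalars k).comp Algebra.TensorProduct.includeRight =
          (Algebra.TensorProduct.lift (HopfFF.res (toConv iL)).ofConv (HopfFF.res (toConv ψ)).ofConv
            fun _ _ => Commute.all _ _).comp (adc k A) := by
        apply WithConv.toConv_injective
        rw [lift_adc, toConv_ofConv, toConv_ofConv, ← HopfFF.res_inv, ← HopfFF.res_mul, ← HopfFF.res_mul, ← hco]
        rfl
      rw [show RCentre.coact j ((1 : K) ⊗ₜ[k] a) = _ from DFunLike.congr_fun hres a, AlgHom.comp_apply]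
      obtain ⟨b⟩ : Nonempty (Module.Basis (Module.Basis.ofVectorSpaceIndex k A) k A) :=
        ⟨Module.Basis.ofVectorSpace k A⟩
      obtain ⟨q, hq⟩ := TensorProduct.eq_repr_basis_left b (adc k A a)
      rw [← hq, Finsupp.sum, map_sum, map_sum]
      refine Finset.sum_eq_zero fun t _ => ?_
      rw [Algebra.TensorProduct.lift_tmul]
      show ComodLib.slice (ev δ n).ofConv (((1 : K) ⊗ₜ[k] b t) ⊗ₜ[K] (1 : L) *
        (1 : K ⊗[k] A) ⊗ₜ[K] (φ : K ⊗[k] A →ₐ[K] L) ((1 : K) ⊗ₜ[k] q t)) = 0
      rw [Algebra.TensorProduct.tmul_mul_tmul, mul_one, one_mul, ComodLib.slice_tmul]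
      refine smul_eq_zero_of_left ?_ _
      show F n ((1 : K) ⊗ₜ[k] q t) = 0
      rw [← hF, ← resL_apply, resL_pow, ← show D = resL (F 1) from rfl, ← hw]
      obtain ⟨P, hP⟩ := exists_poly δs n (q t)
      have hP0 : P = 0 := MvPolynomial.funext fun c => by
        rw [map_zero, ← MvPolynomial.coe_aeval_eq_eval]
        show MvPolynomial.aeval c P = 0
        rw [← hP k c]
        have h0 := hN (comb δs c) (hnil _ (comb_isDer δs hδs c)) n hn
        rw [ComodLib.smul_eq, coact_toAd, ← hq, Finsupp.sum, map_sum] at h0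
        simp only [ComodLib.slice_tmul] at h0
        have h1 := congrArg (fun v : A => b.repr v t) (show (∑ i ∈ q.support,
          (comb δs c ^ n).ofConv (q i) • b i : A) = 0 from h0)
        simp only [map_sum, map_smul, Module.Basis.repr_self, map_zero, Finsupp.zero_apply,
          Finsupp.finsetSum_apply, Finsupp.smul_apply, Finsupp.single_apply, smul_eq_mul, mul_ite, mul_one, mul_zero,
          Finset.sum_ite_eq'] at h1
        by_cases ht : t ∈ q.support
        · rwa [if_pos ht] at h1
        · rw [Finsupp.notMem_support_iff.1 ht]; exact map_zero _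
      rw [hP K w, hP0, map_zero]
  obtain ⟨N, hN⟩ := key (RCentre.wt j a' m)
  have h := hN (N + 1) (Nat.le_succ N)
  rw [LieTorus.coact_wt] at h
  have h' : ev δ (N + 1) (MonoidAlgebra.single m (1 : K)) • RCentre.wt j a' m = 0 := by
    rw [← h]; exact (ComodLib.slice_tmul _ _ _).symm
  rcases smul_eq_zero.1 h' with h'' | h''
  · rw [ev_single] at h''
    exact eq_zero_of_pow_eq_zero h''
  · exact absurd h'' hne

end torus

end Groth.Agent.MaxTorField
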