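import Groth.Agent.RedCharZeroLib.Lie
import Groth.Agent.ComodFlipLib
import Mathlib.RingTheory.HopfAlgebra.Quotient

/-!
# The subgroup generated by a point derivation

The functions killed by all powers of a point derivation form a Hopf ideal; the subgroup it cuts out is
commutative and connected, in any characteristic.
-/

set_option autoImplicit false

noncomputable section

universe u v

open TensorProduct HopfRep WithConv
open scoped ComodLib

namespace Groth.Agent.MaxTorField

variable {k : Type u} [Field k]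

/-- Tensors are detected by products of separating families of functionals. -/
theorem eq_zero_of_sep {P Q : Type v} [AddCommGroup P] [Module k P] [AddCommGroup Q] [Module k Q]
    {ι κ : Type*} (f : ι → P →ₗ[k] k) (g : κ → Q →ₗ[k] k)
    (hf : ∀ p, (∀ i, f i p = 0) → p = 0) (hg : ∀ q, (∀ j, g j q = 0) → q = 0) (z : P ⊗[k] Q)
    (h : ∀ i j, LinearMap.mul' k k (TensorProduct.map (f i) (g j) z) = 0) : z = 0 := by
  classical
  obtain ⟨b⟩ : Nonempty (Module.Basis (Module.Basis.ofVectorSpaceIndex k P) k P) :=
    ⟨Module.Basis.ofVectorSpace k P⟩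
  obtain ⟨s, hs⟩ := TensorProduct.eq_repr_basis_left b z
  rw [← hs] at h ⊢
  have key : ∀ j, s.sum (fun i q => g j q • b i) = 0 := fun j => hf _ fun i => by
    have h1 := h i j
    simp only [Finsupp.sum, map_sum, TensorProduct.map_tmul, LinearMap.mul'_apply] at h1
    simp only [Finsupp.sum, map_sum, map_smul, smul_eq_mul]
    rw [← h1]
    exact Finset.sum_congr rfl fun l _ => mul_comm _ _
  have hq : ∀ l, s l = 0 := fun l => hg _ fun j => by
    have h1 := congrArg (fun p => b.repr p l) (key j)
    simp only [Finsupp.sum, map_sum, map_smul, Module.Basis.repr_self, map_zero, Finsupp.zero_apply,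
      Finsupp.finsetSum_apply, Finsupp.smul_apply, Finsupp.single_apply, smul_eq_mul, mul_ite, mul_one, mul_zero,
      Finset.sum_ite_eq'] at h1
    by_cases hl : l ∈ s.support
    · rwa [if_pos hl] at h1
    · rw [Finsupp.notMem_support_iff.1 hl, map_zero]
  rw [Finsupp.sum]
  exact Finset.sum_eq_zero fun l _ => by rw [hq, TensorProduct.tmul_zero]

variable {A : Type v} [CommRing A] [HopfAlgebra k A]

local notation "𝔸" => ComodLib.Dual' k A
local notation "ε" => CoalgebraStruct.counit (R := k) (A := A)

open RedCharZeroLib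


theorem smul_one_eq_zero {x : 𝔸} (hx : IsDer x) : x • (1 : A) = 0 := by
  show ComodLib.slice x.ofConv (CoalgebraStruct.comul (R := k) (1 : A)) = 0
  rw [Bialgebra.comul_one, Algebra.TensorProduct.one_def, ComodLib.slice_tmul, show x.ofConv (1 : A) = 0 from hx.one,
    zero_smul]

theorem pow_apply_eq (x : 𝔸) (n : ℕ) (a : A) : (x ^ n) a = ε (x ^ n • a) := (ComodLib.counit_smul _ a).symm

theorem pow_succ_apply_eq (x : 𝔸) (n : ℕ) (a : A) : (x ^ (n + 1)) a = (x ^ n) (x • a) := by
  rw [pow_apply_eq, pow_apply_eq x n (x • a), pow_succ, mul_smul]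

/-- The functions killed by all powers of a point derivation. -/
def genIdeal (x : 𝔸) (hx : IsDer x) : Ideal A where
  carrier := {a | ∀ n : ℕ, (x ^ n) a = 0}
  zero_mem' n := map_zero _
  add_mem' {a b} ha hb n := by
    show (x ^ n).ofConv (a + b) = 0
    rw [map_add, show (x ^ n).ofConv a = 0 from ha n, show (x ^ n).ofConv b = 0 from hb n, add_zero]
  smul_mem' c a ha n := by
    induction n generalizing c a with
    | zero =>
      have h0 := ha 0
      rw [pow_apply_eq, pow_zero, one_smul] at h0 ⊢
      rw [smul_eq_mul, Bialgebra.counit_mul, h0, mul_zero]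
    | succ n ih =>
      have ha' : ∀ m, (x ^ m) (x • a) = 0 := fun m => (pow_succ_apply_eq x m a).symm.trans (ha (m + 1))
      rw [pow_succ_apply_eq, smul_eq_mul, hx.smul_mul]
      show (x ^ n).ofConv (c * (x • a) + a * (x • c)) = 0
      rw [map_add, show (x ^ n).ofConv (c * (x • a)) = 0 from ih c (x • a) ha', mul_comm a,
        show (x ^ n).ofConv ((x • c) * a) = 0 from ih (x • c) a ha, add_zero]

theorem mem_genIdeal {x : 𝔸} {hx : IsDer x} {a : A} : a ∈ genIdeal x hx ↔ ∀ n : ℕ, (x ^ n) a = 0 := Iff.rfl

theorem counit_eq_zero_of_mem {x : 𝔸} {hx : IsDer x} {a : A} (ha : a ∈ genIdeal x hx) : ε a = 0 := by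
  have := ha 0
  rwa [pow_apply_eq, pow_zero, one_smul] at this

theorem smul_mem {x : 𝔸} {hx : IsDer x} {a : A} (ha : a ∈ genIdeal x hx) : x • a ∈ genIdeal x hx := fun n =>
  (pow_succ_apply_eq x n a).symm.trans (ha (n + 1))

theorem apply_antipode {x : 𝔸} (hx : IsDer x) (a : A) : x (HopfAlgebraStruct.antipode (R := k) a) = -x a := by
  have h := congrArg x.ofConv (HopfAlgebra.mul_antipode_rTensor_comul_apply (R := k) a)
  rw [Algebra.algebraMap_eq_smul_one, map_smul, show x.ofConv (1 : A) = 0 from hx.one, smul_zero] at h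
  have key : ∀ z : A ⊗[k] A,
      x.ofConv (LinearMap.mul' k A ((HopfAlgebraStruct.antipode (R := k) (A := A)).rTensor A z)) =
        x.ofConv (TensorProduct.lid k A ((ε).rTensor A z)) +
          x.ofConv (HopfAlgebraStruct.antipode (R := k) (TensorProduct.rid k A ((ε).lTensor A z))) := by
    intro z
    induction z with
    | zero => simp
    | add p q hp hq => simp only [map_add, hp, hq]; abel
    | tmul p q =>
      simp only [LinearMap.rTensor_tmul, LinearMap.lTensor_tmul, LinearMap.mul'_apply, TensorProduct.lid_tmul,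
        TensorProduct.rid_tmul, map_smul, smul_eq_mul]
      rw [show x.ofConv (HopfAlgebraStruct.antipode (R := k) p * q) = _ from hx _ _, HopfAlgebra.counit_antipode]
  rw [key, Coalgebra.rTensor_counit_comul, Coalgebra.lTensor_counit_comul] at h
  simp only [TensorProduct.lid_tmul, TensorProduct.rid_tmul, one_smul] at h
  exact eq_neg_of_add_eq_zero_right h

theorem pow_apply_antipode {x : 𝔸} (hx : IsDer x) (n : ℕ) (a : A) :
    (x ^ n) (HopfAlgebraStruct.antipode (R := k) a) = (-1) ^ n * (x ^ n) a := by
  induction n generalizing a with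
  | zero =>
    rw [pow_zero, pow_zero, one_mul]
    show (1 : 𝔸) _ = (1 : 𝔸) a
    simp [LinearMap.convOne_def, HopfAlgebra.counit_antipode]
  | succ n ih =>
    rw [pow_succ']
    conv_rhs => rw [(Commute.self_pow x n).eq]
    rw [LinearMap.convMul_apply, LinearMap.convMul_apply, ComodFlip.comul_antipode_apply]
    generalize CoalgebraStruct.comul (R := k) a = z
    induction z with
    | zero => simp
    | add p q hp hq => simp only [map_add, hp, hq, mul_add]
    | tmul p q =>
      simp only [TensorProduct.comm_tmul, TensorProduct.map_tmul, LinearMap.mul'_apply]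
      rw [show x.ofConv _ = _ from apply_antipode hx q, show (x ^ n).ofConv _ = _ from ih p]
      ring

instance isHopfIdeal_genIdeal {x : 𝔸} (hx : IsDer x) : (genIdeal x hx).IsHopfIdeal k where
  counit_eq_zero _ ha := counit_eq_zero_of_mem (hx := hx) ha
  antipode_mem a ha n := by rw [pow_apply_antipode hx, ha n, mul_zero]
  map_mkQ_comul_eq_zero a ha := by
    let I := (genIdeal x hx).restrictScalars k
    let f : ℕ → (A ⧸ I) →ₗ[k] k := fun n => I.liftQ (x ^ n).ofConv fun b hb => LinearMap.mem_ker.2 (hb n)
    have hf : ∀ q, (∀ n, f n q = 0) → q = 0 := fun q hq => by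
      obtain ⟨b, rfl⟩ := I.mkQ_surjective q
      exact (Submodule.Quotient.mk_eq_zero I).2 hq
    refine eq_zero_of_sep f f hf hf _ fun m n => ?_
    rw [← LinearMap.comp_apply (TensorProduct.map (f m) (f n)), ← TensorProduct.map_comp,
      show f m ∘ₗ I.mkQ = (x ^ m).ofConv from Submodule.liftQ_mkQ _ _ _,
      show f n ∘ₗ I.mkQ = (x ^ n).ofConv from Submodule.liftQ_mkQ _ _ _, ← LinearMap.convMul_apply, ← pow_add]
    exact ha (m + n)

/-- The subgroup generated by a point derivation is connected. -/
theorem isIdempotentElem_quot {x : 𝔸} (hx : IsDer x) (e : A ⧸ genIdeal x hx) (he : IsIdempotentElem e) : e = 0 ∨ e = 1 := by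
  obtain ⟨e, rfl⟩ := Ideal.Quotient.mk_surjective e
  let q := Ideal.Quotient.mk (genIdeal x hx)
  have hee : e * e - e ∈ genIdeal x hx := by
    rw [← Ideal.Quotient.eq_zero_iff_mem, map_sub, map_mul, sub_eq_zero]; exact he
  have h1 : q (x • e) = q e * q (x • e) + q e * q (x • e) := by
    have h := smul_mem (hx := hx) hee
    rw [smul_sub, hx.smul_mul, ← Ideal.Quotient.eq_zero_iff_mem, map_sub, map_add, map_mul, sub_eq_zero] at h
    exact h.symm
  have h2 : q e * q (x • e) = 0 := by
    have h := congrArg (q e * ·) h1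
    simp only [mul_add, ← mul_assoc, show q e * q e = q e from he] at h
    exact left_eq_add.1 h
  have hxe : x • e ∈ genIdeal x hx := Ideal.Quotient.eq_zero_iff_mem.1 (h1.trans (by rw [h2, add_zero]))
  have hmem : e - algebraMap k A (ε e) ∈ genIdeal x hx := fun n => by
    cases n with
    | zero => rw [pow_apply_eq, pow_zero, one_smul, map_sub, Bialgebra.counit_algebraMap, sub_self]
    | succ n =>
      rw [pow_succ_apply_eq, smul_sub, Algebra.algebraMap_eq_smul_one, smul_comm, smul_one_eq_zero hx, smul_zero,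
        sub_zero]
      exact hxe n
  have hqe : q e = algebraMap k (A ⧸ genIdeal x hx) (ε e) :=
    (Ideal.Quotient.mk_eq_mk_iff_sub_mem _ _).2 hmem
  have hε : ε e * ε e = ε e := by
    have := counit_eq_zero_of_mem hee
    rwa [map_sub, Bialgebra.counit_mul, sub_eq_zero] at this
  show q e = 0 ∨ q e = 1
  rw [hqe]
  rcases (show ε e = 0 ∨ ε e = 1 from IsIdempotentElem.iff_eq_zero_or_one.1 hε) with h | h <;> simp [h]

/-- The subgroup generated by a point derivation is commutative. -/
theorem isCocomm_quot {x : 𝔸} (hx : IsDer x) : Coalgebra.IsCocomm k (A ⧸ genIdeal x hx) := by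
  let I := genIdeal x hx
  let f : ℕ → (A ⧸ I) →ₗ[k] k := fun n =>
    (I.restrictScalars k).liftQ (x ^ n).ofConv fun b hb => LinearMap.mem_ker.2 (hb n)
  have hfm : ∀ n b, f n (Ideal.Quotient.mk I b) = (x ^ n) b := fun n b => rfl
  have hf : ∀ q, (∀ n, f n q = 0) → q = 0 := fun q hq => by
    obtain ⟨b, rfl⟩ := Ideal.Quotient.mk_surjective q
    exact Ideal.Quotient.eq_zero_iff_mem.2 hq
  refine ⟨LinearMap.ext fun q => ?_⟩
  obtain ⟨b, rfl⟩ := Ideal.Quotient.mk_surjective q
  rw [LinearMap.comp_apply, ← sub_eq_zero]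
  refine eq_zero_of_sep f f hf hf _ fun m n => ?_
  have key : ∀ (m n : ℕ), LinearMap.mul' k k (TensorProduct.map (f m) (f n)
      (CoalgebraStruct.comul (R := k) (Ideal.Quotient.mk I b))) = (x ^ (m + n)) b := fun m n => by
    rw [show CoalgebraStruct.comul (R := k) (Ideal.Quotient.mk I b) =
      TensorProduct.map (Ideal.Quotient.mkₐ k I).toLinearMap (Ideal.Quotient.mkₐ k I).toLinearMap
        (CoalgebraStruct.comul (R := k) b) from (CoalgHomClass.map_comp_comul_apply (Bialgebra.Quotient.mkBialgHom (R := k) I) b).symm,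
      ← LinearMap.comp_apply (TensorProduct.map (f m) (f n)), ← TensorProduct.map_comp, pow_add, LinearMap.convMul_apply]
    rfl
  have hc : ∀ z : (A ⧸ I) ⊗[k] (A ⧸ I), LinearMap.mul' k k (TensorProduct.map (f m) (f n)
      (TensorProduct.comm k _ _ z)) = LinearMap.mul' k k (TensorProduct.map (f n) (f m) z) := fun z => by
    induction z with
    | zero => simp
    | add p q hp hq => simp only [map_add, hp, hq]
    | tmul p q => simp [mul_comm]
  rw [map_sub, map_sub, LinearEquiv.coe_coe, hc, key, key, add_comm, sub_self]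

/-- The derivation as a functional on the subgroup it generates. -/
def genDer {x : 𝔸} (hx : IsDer x) : ComodLib.Dual' k (A ⧸ genIdeal x hx) :=
  toConv (((genIdeal x hx).restrictScalars k).liftQ x.ofConv fun b hb => LinearMap.mem_ker.2 (by
    have := hb 1; rwa [pow_one] at this))

theorem genDer_apply {x : 𝔸} (hx : IsDer x) (b : A) :
    (genDer hx) (Ideal.Quotient.mk (genIdeal x hx) b) = x b := rfl

end Groth.Agent.MaxTorField
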