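import Groth.Agent.ComodLib.Coeff
import Groth.Agent.UnipHopfLib.Socle
import Groth.Agent.HopfFFLib.Normal.Correspondence
import Groth.Agent.HopfFFLib.Injective

/-!
# Representations trivial on the part of multiplicative type are unipotent
-/

set_option autoImplicit false
set_option backward.isDefEq.respectTransparency false

noncomputable section

universe u w

open TensorProduct HopfRep WithConv
open scoped ComodLib

namespace Groth.Agent.MaxTorField

variable {k : Type u} [Field k]

/-- Functionals vanishing at one are topologically nilpotent on a unipotent group. -/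
theorem pow_apply_eq_zero {U : Type u} [CommRing U] [HopfAlgebra k U] {h : ComodLib.Dual' k U}
    (h1 : h (1 : U) = 0) : ∀ (n : ℕ) (u : U), u ∈ UnipHopf.K k U n → (h ^ n) u = 0 := by
  intro n
  induction n with
  | zero =>
    intro u hu
    rw [UnipHopf.K_zero, Submodule.mem_bot] at hu
    rw [hu]
    exact map_zero _
  | succ n ih =>
    intro u hu
    rw [← ComodLib.counit_smul, pow_succ, mul_smul, ComodLib.counit_smul]
    exact ih _ (UnipHopf.mem_K_succ.1 hu h h1)

/-- In a representation on which the part of multiplicative type acts trivially, every functional vanishing at one acts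
locally nilpotently. -/
theorem exists_pow_smul_eq_zero {B : Type u} [CommRing B] [HopfAlgebra k B] (J : Ideal B) [J.IsHopfIdeal k]
    {U : Type u} [CommRing U] [HopfAlgebra k U] (φ : U →ₐc[k] B)
    (hJ : J = Ideal.map (φ : U →+* B) (RingHom.ker (Bialgebra.counitAlgHom k U))) (hU : IsUnipotent k U)
    {V : Type w} [AddCommGroup V] [Module k V] [Comod k B V]
    (htriv : ∀ v : V, (Ideal.Quotient.mkₐ k J).toLinearMap.lTensor V (Comod.coact (k := k) (A := B) v) =
      v ⊗ₜ[k] (1 : B ⧸ J))
    {g : ComodLib.Dual' k B} (hg : g (1 : B) = 0) (v : V) : ∃ n : ℕ, g ^ n • v = 0 := by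
  classical
  let π := (Ideal.Quotient.mkₐ k J).toLinearMap
  -- the coefficients of `v` are invariant
  have hinv : ∀ γ : V →ₗ[k] k, ∃ u : U, φ u = ComodLib.coeff (A := B) γ v := by
    intro γ
    have hb : ComodLib.coeff (A := B) γ v ∈ HopfFF.coinv k J := by
      rw [HopfFF.mem_coinv]
      show (Algebra.TensorProduct.map (AlgHom.id k B) (HopfFF.qmap (k := k) J))
        (CoalgebraStruct.comul (R := k) (ComodLib.coeff (A := B) γ v)) = _
      have e : ∀ z : B ⊗[k] B, (Algebra.TensorProduct.map (AlgHom.id k B) (HopfFF.qmap (k := k) J)) z =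
          π.lTensor B z := fun z => by
        induction z with
        | zero => simp
        | add p q hp hq => simp only [map_add, hp, hq]
        | tmul p q => rfl
      rw [e]
      refine ComodLib.ext_slice fun f => ?_
      rw [ComodLib.slice_lTensor, ComodLib.slice_tmul]
      show (toConv (f ∘ₗ π) : ComodLib.Dual' k B) • ComodLib.coeff (A := B) γ v = _
      rw [← map_smul, ComodLib.smul_eq, ofConv_toConv, ← ComodLib.slice_lTensor, htriv, ComodLib.slice_tmul,
        LinearMap.map_smul_of_tower]
    have hle : J ≤ SGA3.augIdealSpan k B (φ : U →ₐ[k] B).range := by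
      rw [hJ, Ideal.map_le_iff_le_comap]
      intro u hu
      exact Ideal.subset_span ⟨⟨u, rfl⟩, (CoalgHomClass.counit_comp_apply φ u).trans hu⟩
    exact HopfFF.coinv_le_of_le_augSpan (HopfFF.isSubHopf_range φ) hle hb
  -- finitely many of them
  let Γ : (V →ₗ[k] k) →ₗ[k] B :=
    { toFun := fun γ => ComodLib.sliceL γ (Comod.coact (k := k) (A := B) v)
      map_add' := fun a b => by simp [ComodLib.sliceL, LinearMap.rTensor_add]
      map_smul' := fun c a => by simp [ComodLib.sliceL, LinearMap.rTensor_smul] }
  have hfg : (LinearMap.range Γ).FG := by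
    obtain ⟨s, hs⟩ := ComodLib.exists_expansion (Comod.coact (k := k) (A := B) v)
    have hle : LinearMap.range Γ ≤ Submodule.span k ((Module.Basis.ofVectorSpace k B) '' (s : Set _)) := by
      rintro _ ⟨γ, rfl⟩
      show ComodLib.sliceL γ _ ∈ _
      rw [hs, map_sum]
      refine Submodule.sum_mem _ fun i hi => ?_
      rw [ComodLib.sliceL_tmul]
      exact Submodule.smul_mem _ _ (Submodule.subset_span ⟨i, hi, rfl⟩)
    haveI : Module.Finite k (Submodule.span k ((Module.Basis.ofVectorSpace k B) '' (s : Set _))) :=
      Module.Finite.span_of_finite k (s.finite_toSet.image _)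
    haveI := Submodule.finiteDimensional_of_le hle
    exact Module.Finite.iff_fg.1 inferInstance
  obtain ⟨S, hS⟩ := hfg
  have hSmem : ∀ b : S, ∃ u : U, φ u = (b : B) := fun b => by
    obtain ⟨γ, hγ⟩ : (b : B) ∈ LinearMap.range Γ := hS ▸ Submodule.subset_span b.2
    exact hγ ▸ hinv γ
  choose uu huu using hSmem
  choose nn hnn using fun b : S => UnipHopf.exhaustive_of_isUnipotent hU (uu b)
  let N := Finset.univ.sup nn
  refine ⟨N, (Module.forall_dual_apply_eq_zero_iff (R := k) _).1 fun γ => ?_⟩
  rw [← ComodLib.counit_coeff (A := B) γ, map_smul, ComodLib.counit_smul]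
  let h : ComodLib.Dual' k U := toConv (g.ofConv ∘ₗ (φ : U →ₐ[k] B).toLinearMap)
  have hh : ∀ (n : ℕ) (u : U), (g ^ n) (φ u) = (h ^ n) u := by
    intro n
    induction n with
    | zero => intro u; exact (CoalgHomClass.counit_comp_apply φ u)
    | succ n ih =>
      intro u
      rw [pow_succ, pow_succ, LinearMap.convMul_apply, LinearMap.convMul_apply,
        show CoalgebraStruct.comul (R := k) (φ u) = TensorProduct.map (φ : U →ₐ[k] B).toLinearMap
          (φ : U →ₐ[k] B).toLinearMap (CoalgebraStruct.comul (R := k) u) from (CoalgHomClass.map_comp_comul_apply φ u).symm,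
        ← LinearMap.comp_apply (TensorProduct.map _ _), ← TensorProduct.map_comp,
        show (g ^ n).ofConv ∘ₗ (φ : U →ₐ[k] B).toLinearMap = (h ^ n).ofConv from LinearMap.ext ih]
  have hall : LinearMap.range Γ ≤ LinearMap.ker (g ^ N).ofConv := by
    rw [← hS, Submodule.span_le]
    intro b hb
    show (g ^ N) ((⟨b, hb⟩ : S) : B) = 0
    rw [← huu ⟨b, hb⟩, hh]
    refine pow_apply_eq_zero ?_ N _ (UnipHopf.K_mono (Finset.le_sup (Finset.mem_univ _)) (hnn _))
    show g.ofConv ((φ : U →ₐ[k] B) 1) = 0
    rw [map_one]
    exact hg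
  exact hall ⟨γ, rfl⟩

end Groth.Agent.MaxTorField
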