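import Groth.Agent.MaxTorFieldLib.Density
import Groth.Agent.MaxTorFieldLib.Unip
import Groth.Agent.S4130
import Groth.Agent.HomCorrLib.Bridge
import Groth.Agent.DiagHopfLib.Groups
import Groth.Agent.SchFinLib.Conn
import Groth.Agent.MultTorusLib.Diag
import Groth.Agent.MultExtLib.Main

/-!
# Subgroups of multiplicative type acting non-trivially

Over an infinite field, a group whose extension to an algebraically closed field has a torus but no central
subgroup of multiplicative type has, over the field itself, a non-central subgroup of multiplicative type inside a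
connected commutative subgroup.
-/

set_option autoImplicit false
set_option backward.isDefEq.respectTransparency false
set_option maxHeartbeats 800000

noncomputable section

universe u

open TensorProduct HopfRep WithConv CategoryTheory MonoidalCategory CartesianMonoidalCategory AlgebraicGeometry CoactBr
open scoped ComodLib MonObj

attribute [-instance] CategoryTheory.Hom.commGroup

namespace Groth.Agent.MaxTorField

attribute [local instance] CoactBr.braidedAlgSpecOf HopfFF.pointsGroup RCentre.algΓ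

open RedCharZeroLib

variable {k : Type u} [Field k] {A : Type u} [CommRing A] [HopfAlgebra k A] [Algebra.FiniteType k A] [Infinite k]
  {K : Type u} [Field K] [Algebra k K]

theorem fn_comp_pt {R B C : Type u} [CommRing R] [CommRing B] [Algebra R B] [CommRing C] [Algebra R C]
    {X : Over (Spec (CommRingCat.of R))} (g : X ⟶ sp R C) (f : B →ₐ[R] C) :
    RCentre.fn (g ≫ pt f) = (RCentre.fn g).comp f := by
  refine RCentre.fn_unique ?_
  rw [RCentre.toSp_fn, pt_comp, ← Category.assoc, RCentre.toSp_fn]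

theorem isMonHom_inv_of_comm {S : Scheme.{u}} {T G : Over S} [GrpObj T] [GrpObj G] [IsCommMonObj T] (i : T ⟶ G)
    [IsMonHom i] : IsMonHom i⁻¹ := by
  letI : ∀ X : Over S, CommGroup (X ⟶ T) := fun X => Hom.commGroup
  exact
    { one_hom := by rw [GrpObj.comp_inv, IsMonHom.one_hom, MonObj.one_eq_one, inv_one]
      mul_hom := by
        rw [MonObj.mul_eq_mul, GrpObj.comp_inv, MonObj.mul_comp, _root_.mul_inv_rev, ← GrpObj.inv_comp,
          ← GrpObj.inv_comp, ← MonObj.mul_comp, mul_comm ((snd T T)⁻¹) ((fst T T)⁻¹), MonObj.mul_comp,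
          GrpObj.inv_comp, GrpObj.inv_comp, MonObj.mul_eq_mul, MonObj.comp_mul, ← GrpObj.comp_inv,
          ← GrpObj.comp_inv]
        simp }

/-- If all point derivations act locally nilpotently by conjugation, and the extension has no central subgroup of
multiplicative type, then it has no torus. -/
theorem eq_zero_of_nilp (hnil : ∀ ξ : ComodLib.Dual' k A, IsDer ξ → ∀ v : AdMod k A, ∃ n, ξ ^ n • v = 0)
    (hZ : ∀ (N : Type) [AddCommGroup N] [AddGroup.FG N]
      (v : sp K (MonoidAlgebra K (Multiplicative N)) ⟶ sp K (K ⊗[k] A)) [IsMonHom v],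
      (∀ (X : Over (Spec (CommRingCat.of K))) (x : X ⟶ sp K (MonoidAlgebra K (Multiplicative N)))
        (g : X ⟶ sp K (K ⊗[k] A)), (x ≫ v) * g = g * (x ≫ v)) → v = 1)
    {r : ℕ} (i : sp K (MonoidAlgebra K (Multiplicative (Fin r → ℤ))) ⟶ sp K (K ⊗[k] A)) [IsMonHom i] [Mono i] :
    r = 0 := by
  classical
  by_contra hr
  let l₀ : Fin r := ⟨0, Nat.pos_of_ne_zero hr⟩
  obtain ⟨p, hp⟩ := CharP.exists K
  let c : (Fin r → ℤ) →+ (Fin r → ZMod p) :=
    { toFun := fun m l => ((m l : ℤ) : ZMod p)
      map_zero' := by ext; simp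
      map_add' := fun x y => by ext; simp }
  let t := pt (MultTorus.mapChar (R := K) c)
  haveI : IsMonHom t := MultTorus.isMonHom_mapChar c
  haveI : IsMonHom (t ≫ i) := inferInstance
  haveI : AddGroup.FG (Fin r → ZMod p) := by
    have hs : Function.Surjective c := fun y => ⟨fun l => (ZMod.intCast_surjective (y l)).choose,
      funext fun l => (ZMod.intCast_surjective (y l)).choose_spec⟩
    haveI : AddGroup.FG (Fin r → ℤ) := by
      rw [← Module.Finite.iff_addGroup_fg]; infer_instance
    exact AddGroup.fg_of_surjective hs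
  haveI : IsCommMonObj (sp K (MonoidAlgebra K (Multiplicative (Fin r → ℤ)))) := inferInstance
  haveI := isMonHom_inv_of_comm i
  have hwt : ∀ (a : K ⊗[k] A) (m : Multiplicative (Fin r → ℤ)), RCentre.wt i a m ≠ 0 →
      c (Multiplicative.toAdd m) = 0 := by
    intro a m hne
    funext l
    have h := cast_eq_zero_of_wt_ne hnil i a m hne l
    show ((Multiplicative.toAdd m l : ℤ) : ZMod p) = 0
    rw [ZMod.intCast_zmod_eq_zero_iff_dvd]
    exact (CharP.intCast_eq_zero_iff K p _).1 h
  have hv : t ≫ i = 1 := hZ _ (t ≫ i) fun X x g => by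
    rw [← Category.assoc]
    refine RCentre.mul_comm_of_weights i (x ≫ t) (fun a m => ?_) g
    by_cases hm : RCentre.wt i a m = 0
    · rw [hm, TensorProduct.zero_tmul]
    · rw [fn_comp_pt, AlgHom.comp_apply]
      have e : MultTorus.mapChar (R := K) c (MonoidAlgebra.single m 1) = 1 := by
        obtain ⟨m, rfl⟩ := Multiplicative.ofAdd.surjective m
        rw [MultTorus.mapChar_single, show AddMonoidHom.toMultiplicative c (Multiplicative.ofAdd m) =
          Multiplicative.ofAdd (c m) from rfl, show c m = 0 from hwt a _ hm]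
        rfl
      rw [e, map_one, sub_self, TensorProduct.tmul_zero]
  have ht : t = 1 := by rw [← cancel_mono i, hv, MonObj.one_comp]
  rw [← DiagRep.pt_one] at ht
  have h1 := DFunLike.congr_fun (pt_injective ht) (MonoidAlgebra.single (Multiplicative.ofAdd (Pi.single l₀ (1 : ℤ))) 1)
  rw [MultTorus.mapChar_single, AlgHom.comp_apply, Bialgebra.counitAlgHom_apply, MonoidAlgebra.counit_single] at h1
  have h2 := congrArg (fun z : MonoidAlgebra K (Multiplicative (Fin r → ZMod p)) =>
    (MonoidAlgebra.basis (Multiplicative (Fin r → ZMod p)) K).repr z 1) h1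
  have hne : AddMonoidHom.toMultiplicative c (Multiplicative.ofAdd (Pi.single l₀ (1 : ℤ))) ≠ 1 := by
    intro h
    have h3 : ((1 : ℤ) : ZMod p) = 0 := by
      have := congrFun (congrArg Multiplicative.toAdd h) l₀
      simpa [c] using this
    haveI : Nontrivial (ZMod p) := ZMod.nontrivial_iff.2 (CharP.ringChar_ne_one (R := K) |> fun h => by
      rwa [ringChar.eq K p] at h)
    simp at h3
  simp only [CommSemiring.counit_apply, map_one, MonoidAlgebra.one_def, ← MonoidAlgebra.basis_apply,
    Module.Basis.repr_self, Finsupp.single_eq_same, Finsupp.single_eq_of_ne hne.symm] at h2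
  exact one_ne_zero h2.symm

/-- A non-central subgroup of multiplicative type inside a connected commutative subgroup. -/
theorem exists_mu (hnil : ¬ ∀ ξ : ComodLib.Dual' k A, IsDer ξ → ∀ v : AdMod k A, ∃ n, ξ ^ n • v = 0) :
    ∃ (H M : Over (Spec (CommRingCat.of k))) (_ : GrpObj H) (_ : GrpObj M) (u : M ⟶ H) (h : H ⟶ sp k A),
      IsMonHom h ∧ IsClosedImmersion h.left ∧ ConnectedSpace ↥H.left ∧ IsMonHom u ∧ IsClosedImmersion u.left ∧
      IsCommMonObj H ∧ SGA3x.IsMultTypeFT M ∧
      ¬ ∀ (X : Over (Spec (CommRingCat.of k))) (x : X ⟶ M) (g : X ⟶ sp k A),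
        (x ≫ u ≫ h) * g = g * (x ≫ u ≫ h) := by
  classical
  push Not at hnil
  obtain ⟨ξ, hξ, v, hv⟩ := hnil
  let I := genIdeal ξ hξ
  haveI := isCocomm_quot hξ
  haveI : Algebra.FiniteType k (A ⧸ I) :=
    Algebra.FiniteType.of_surjective (Ideal.Quotient.mkₐ k I) Ideal.Quotient.mk_surjective
  obtain ⟨J, hJ, hmult, -, U, _, _, φ, hφ, hJe, hU⟩ := S4130.result k (A ⧸ I)
  haveI := hJ
  let π := Bialgebra.Quotient.mkBialgHom (R := k) I
  let π' := Bialgebra.Quotient.mkBialgHom (R := k) J
  let h := pt (π : A →ₐ[k] A ⧸ I)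
  let u := pt (π' : A ⧸ I →ₐ[k] (A ⧸ I) ⧸ J)
  haveI : IsMonHom h := SekSuwa.isMonHom_specHom π
  haveI : IsMonHom u := SekSuwa.isMonHom_specHom π'
  have hnt : Nontrivial (A ⧸ I) := Ideal.Quotient.nontrivial_iff.2 fun e => by
    have h1 : (1 : A) ∈ I := e ▸ Submodule.mem_top
    have := counit_eq_zero_of_mem h1
    rw [Bialgebra.counit_one] at this
    exact one_ne_zero this
  obtain ⟨R', _, _, hff, N, _, ⟨e'⟩⟩ := hmult
  haveI := hff
  obtain ⟨E₁⟩ := DiagHopf.exists_split_of_bialgEquiv e'
  have hMT := DiagHopf.isMultType_of_split E₁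
  haveI : IsIso (𝟙 (sp k ((A ⧸ I) ⧸ J))) := inferInstance
  haveI : Algebra.FiniteType k ((A ⧸ I) ⧸ J) :=
    Algebra.FiniteType.of_surjective (Ideal.Quotient.mkₐ k J) Ideal.Quotient.mk_surjective
  refine ⟨sp k (A ⧸ I), sp k ((A ⧸ I) ⧸ J), inferInstance, inferInstance, u, h, inferInstance, ?_, ?_, inferInstance,
    ?_, inferInstance, HomCorr.isMultTypeFT_of_isMultType (𝟙 _) hMT, fun hc => ?_⟩
  · rw [show h.left = _ from pt_left _]; exact IsClosedImmersion.spec_of_surjective _ Ideal.Quotient.mk_surjective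
  · exact SchFinLib.connectedSpace_iff_idempotent.2 ⟨hnt, fun e he => isIdempotentElem_quot hξ e he⟩
  · rw [show u.left = _ from pt_left _]; exact IsClosedImmersion.spec_of_surjective _ Ideal.Quotient.mk_surjective
  -- the conjugation action of the subgroup
  letI cH : Comod k (A ⧸ I) (AdMod k A) := GLin.comodAlong π (adComod (k := k) (A := A))
  let g := genDer hξ
  have hg : g (1 : A ⧸ I) = 0 := hξ.one
  have hsm : ∀ (n : ℕ) (w : AdMod k A), g ^ n • w = ξ ^ n • w := by
    intro n
    induction n with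
    | zero => intro w; rw [pow_zero, pow_zero, one_smul, one_smul]
    | succ n ih =>
      intro w
      rw [pow_succ', pow_succ' ξ, mul_smul, mul_smul, ih, ComodLib.smul_eq, ComodLib.smul_eq]
      show ComodLib.slice g.ofConv ((π : A →ₗ[k] A ⧸ I).lTensor (AdMod k A) (Comod.coact (k := k) (A := A) (ξ ^ n • w))) = _
      rw [ComodLib.slice_lTensor]
      rfl
  have htriv : ∀ w : AdMod k A, (Ideal.Quotient.mkₐ k J).toLinearMap.lTensor (AdMod k A)
      (Comod.coact (k := k) (A := A ⧸ I) w) = w ⊗ₜ[k] (1 : (A ⧸ I) ⧸ J) := by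
    intro w
    have hψ := map_adc_of_central ((π' : A ⧸ I →ₐ[k] (A ⧸ I) ⧸ J).comp (π : A →ₐ[k] A ⧸ I)) (fun X x g' => by
      rw [pt_comp]; exact hc X x g')
    have h' := DFunLike.congr_fun hψ (show A from w)
    rw [AlgHom.comp_apply] at h'
    refine Eq.trans ?_ h'
    have e : ∀ z : A ⊗[k] A, (Ideal.Quotient.mkₐ k J).toLinearMap.lTensor A ((π : A →ₗ[k] A ⧸ I).lTensor A z) =
        Algebra.TensorProduct.map (AlgHom.id k A) ((π' : A ⧸ I →ₐ[k] (A ⧸ I) ⧸ J).comp (π : A →ₐ[k] A ⧸ I)) z := fun z => by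
      induction z using TensorProduct.induction_on with
      | zero => simp
      | add p q hp hq => simp only [map_add, hp, hq]
      | tmul p q => rfl
    exact e (adc k A (show A from w))
  obtain ⟨n, hn⟩ := exists_pow_smul_eq_zero J φ hJe hU (V := AdMod k A) htriv (g := g) hg v
  exact hv n (by rw [← hsm]; exact hn)

end Groth.Agent.MaxTorField
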