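import Groth.Agent.BorelLib.RedUnip
import Groth.Agent.S5423
import Groth.Agent.SemiAbLib.Torus
import Groth.Agent.HomLiftLib.Types
import Groth.Agent.GrpHomLib.Field
import Groth.Agent.AntiAffLib.AffineQuot
import Groth.Agent.ConnBC.Main
import Groth.Agent.CommSubLib.Main
import Groth.Agent.TorusLiftLib.Smooth

/-!
# Unipotence and subtori, in terms of Hopf algebras
-/

set_option autoImplicit false
set_option linter.style.haveILetI false
set_option backward.isDefEq.respectTransparency false
set_option maxHeartbeats 1000000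
set_option synthInstance.maxHeartbeats 200000

noncomputable section

universe u

open CategoryTheory CategoryTheory.Limits MonoidalCategory CartesianMonoidalCategory AlgebraicGeometry CoactBr WithConv
open scoped MonObj TensorProduct

attribute [-instance] CategoryTheory.Hom.commGroup

namespace Groth.Agent.MaxTorField

variable {k : Type u} [Field k] {A : Type u} [CommRing A] [HopfAlgebra k A] [Algebra.FiniteType k A]

theorem smooth_sp [Algebra.FormallySmooth k A] : Smooth (sp k A).hom := by
  haveI : Algebra.FinitePresentation k A := Algebra.FinitePresentation.of_finiteType.1 inferInstance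
  haveI : Algebra.Smooth k A := ⟨inferInstance, inferInstance⟩
  show Smooth (Spec.map (CommRingCat.ofHom (algebraMap k A)))
  rw [HasRingHomProperty.Spec_iff (P := @Smooth)]
  exact (RingHom.smooth_algebraMap).2 inferInstance

/-- The base change of the spectrum of a connected Hopf algebra is connected. -/
theorem connectedSpace_sp_baseChange (hconn : ∀ e : A, IsIdempotentElem e → e = 0 ∨ e = 1) (K : Type u) [Field K]
    [Algebra k K] : ConnectedSpace ↥(sp K (K ⊗[k] A)).left := by
  haveI : Nontrivial A := RingHom.domain_nontrivial (Bialgebra.counitAlgHom k A).toRingHom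
  haveI : ConnectedSpace ↥(sp k A).left := ConnBC.connectedSpace_spec (A := A) hconn
  haveI : LocallyOfFiniteType (sp k A).hom := by
    show LocallyOfFiniteType (Spec.map (CommRingCat.ofHom (algebraMap k A)))
    rw [HasRingHomProperty.Spec_iff (P := @LocallyOfFiniteType)]
    exact RingHom.finiteType_algebraMap.2 inferInstance
  haveI := CommSubLib.geometricallyIrreducible_of_connected (sp k A)
  haveI : IrreducibleSpace ↥(pullback (sp k A).hom (DiagRep.baseHom k K)) :=
    GeometricallyIrreducible.geometrically_irreducibleSpace _ _ _ (.of_hasPullback _ _)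
  haveI : ConnectedSpace ↥(Red.bc (DiagRep.baseHom k K) (sp k A)).left :=
    inferInstanceAs (ConnectedSpace ↥(pullback (sp k A).hom (DiagRep.baseHom k K)))
  haveI : IsIso (DiagRep.bcHom k K A).left := (Over.forget _).map_isIso (DiagRep.bcHom k K A)
  exact (Scheme.homeoOfIso (asIso (DiagRep.bcHom k K A).left)).connectedSpace_iff.1 inferInstance

/-- A connected smooth group over an algebraically closed field without subtori is unipotent. -/
theorem isUnipotent_of_hasNoSubtorus [IsAlgClosed k] [Algebra.FormallySmooth k A] [ConnectedSpace ↥(sp k A).left]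
    (h : Red.HasNoSubtorus k (sp k A)) : HopfRep.IsUnipotent k A := by
  haveI := smooth_sp (k := k) (A := A)
  haveI : IsAffine (sp k A).left := inferInstanceAs (IsAffine (Spec (CommRingCat.of A)))
  haveI : AlgebraicGeometry.IsReduced (sp k A).left := AlgSpLib.isReduced_of_smooth (sp k A).hom
  haveI : AlgebraicGeometry.IsReduced (Spec (CommRingCat.of A)) := this
  haveI : _root_.IsReduced A := isReduced_of_injective (Scheme.ΓSpecIso (CommRingCat.of A)).inv.hom
    (ConcreteCategory.bijective_of_isIso (Scheme.ΓSpecIso (CommRingCat.of A)).inv).1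
  haveI : IsClosedImmersion (𝟙 (sp k A) : sp k A ⟶ sp k A).left := inferInstanceAs (IsClosedImmersion (𝟙 (sp k A).left))
  haveI : IsMonHom (Iso.refl (sp k A)).hom := inferInstanceAs (IsMonHom (𝟙 (sp k A)))
  have hu := BorelLib.uni_of_hasNoSubtorus (Iso.refl (sp k A)) (𝟙 (sp k A)) h
  refine (Groth.Agent.S5423.result k A).2 fun g V _ _ _ hV => ?_
  haveI := hV
  let r : BorelLib.RegRep (⊤ : Subgroup (BorelLib.Pt k A)) V :=
    { ρ := fun g => LieKolchinLib.rep V g
      map_one := map_one _
      map_mul := fun g _ h _ => map_mul _ g h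
      reg := fun φ v => ⟨ComodLib.coeff (A := A) φ v, fun g => LieKolchinLib.apply_rep φ g v⟩ }
  obtain ⟨N, hN⟩ := hu (toConv g) ((BorelLib.mem_ptsSub _).2 ⟨_, Category.comp_id _⟩) V r
  exact ⟨N, hN⟩

/-- Subtori of an affine group correspond to torus quotients of its Hopf algebra. -/
theorem hasNoSubtorus_of_hopf (F : Type u) [Field F] [Algebra k F] [IsAlgClosed F]
    (h : ∀ (B : Type u) [CommRing B] [HopfAlgebra k B] (φ : A →ₐc[k] B), Function.Surjective φ →
      ∀ n : ℕ, TorusField.Split k B (Fin n → ℤ) F → Function.Bijective (algebraMap k B)) :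
    Red.HasNoSubtorus k (sp k A) := by
  intro T _ j _ _ hT
  haveI : Smooth T.hom := TorusLift.smooth_of_isTorus hT
  obtain ⟨S', f, -, hfs, -, hloc⟩ := hT
  obtain ⟨s', -⟩ := hfs.surj (IsLocalRing.closedPoint k)
  obtain ⟨U, hU, r, ⟨e⟩⟩ := hloc s'
  let u : U.toScheme := ⟨s', hU⟩
  let L : Type u := U.toScheme.residueField u
  let g : Spec (CommRingCat.of L) ⟶ U.toScheme := U.toScheme.fromSpecResidueField u
  letI : Algebra k L := (Spec.preimage (g ≫ U.ι ≫ f)).hom.toAlgebra
  have hh : Spec.map (CommRingCat.ofHom (algebraMap k L)) = g ≫ U.ι ≫ f := Spec.map_preimage _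
  have hsplit : Red.IsSplitTorusWith (Fin r → ℤ) (Red.bc (DiagRep.baseHom k L) T) := by
    show Red.IsSplitTorusWith (Fin r → ℤ) (Red.bc (Spec.map (CommRingCat.ofHom (algebraMap k L))) T)
    rw [hh]
    obtain ⟨ψ, h1, h2⟩ := AlbLib.exists_split_at g (U.ι ≫ f) T _ e
    haveI := h1; haveI := h2
    exact ⟨Grp.mkIso (asIso ψ) (IsMonHom.one_hom ψ) (IsMonHom.mul_hom ψ)⟩
  obtain ⟨B, _, _, v, hv, hv', ⟨E⟩⟩ := TorusField.exists_torus_rep T F ⟨L, inferInstance, inferInstance, hsplit⟩
  haveI := hv
  let q : sp k B ⟶ sp k A := v.hom ≫ j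
  haveI : IsMonHom q := by show IsMonHom (v.hom ≫ j); infer_instance
  haveI : Mono q := by show Mono (v.hom ≫ j); infer_instance
  haveI : Mono q.left := inferInstanceAs (Mono ((Over.forget _).map q))
  obtain ⟨φ, hφ⟩ := AntiAffLib.exists_bialgHom q
  haveI : IsAffineHom (Spec.map (CommRingCat.ofHom (φ : A →ₐ[k] B).toRingHom)) := isAffineHom_of_isAffine _
  haveI : QuasiCompact q.left := by rw [hφ, pt_left]; infer_instance
  haveI : LocallyOfFiniteType (sp k A).hom := by
    show LocallyOfFiniteType (Spec.map (CommRingCat.ofHom (algebraMap k A)))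
    rw [HasRingHomProperty.Spec_iff (P := @LocallyOfFiniteType)]
    exact RingHom.finiteType_algebraMap.2 inferInstance
  haveI : IsIso v.hom.left := (Over.forget _).map_isIso v.hom
  haveI : LocallyOfFiniteType (sp k B).hom := by rw [← Over.w v.hom]; infer_instance
  haveI : IsClosedImmersion q.left := GrpHom.isClosedImmersion_of_mono q
  have hsurj : Function.Surjective φ := by
    have : IsClosedImmersion (Spec.map (CommRingCat.ofHom (φ : A →ₐ[k] B).toRingHom)) := by
      rw [← pt_left, ← hφ]; infer_instance
    obtain ⟨-, h2⟩ := IsClosedImmersion.isAffine_surjective_of_isAffine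
      (Spec.map (CommRingCat.ofHom (φ : A →ₐ[k] B).toRingHom))
    intro b
    obtain ⟨a, ha⟩ := h2 ((Scheme.ΓSpecIso (CommRingCat.of B)).inv b)
    refine ⟨(Scheme.ΓSpecIso (CommRingCat.of A)).hom a, ?_⟩
    have := ConcreteCategory.congr_hom
      (Scheme.ΓSpecIso_naturality (CommRingCat.ofHom (φ : A →ₐ[k] B).toRingHom)) a
    simp only [CommRingCat.hom_comp, RingHom.comp_apply] at this
    rw [show (Spec.map (CommRingCat.ofHom (φ : A →ₐ[k] B).toRingHom)).appTop a = _ from ha] at this
    simpa using this.symm
  have hbij := h B φ hsurj r E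
  haveI : IsIso (sp k B).hom := by
    show IsIso (Spec.map (CommRingCat.ofHom (algebraMap k B)))
    haveI : IsIso (CommRingCat.ofHom (algebraMap k B)) :=
      (ConcreteCategory.isIso_iff_bijective _).2 hbij
    infer_instance
  haveI : IsIso v.inv.left := (Over.forget _).map_isIso v.inv
  show IsIso T.hom
  rw [← Over.w v.inv]
  infer_instance

end Groth.Agent.MaxTorField
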